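import Groth.Agent.SHBaseChangeLib.Main
import Groth.Agent.AcycCritLib.Main
import Groth.Agent.QuotLib.GeomLift

/-!
# Locally quasi-finite base change keeps the condition on strict localizations
-/

set_option autoImplicit false
set_option backward.isDefEq.respectTransparency false
set_option backward.isDefEq.respectTransparency.types false
set_option linter.style.haveILetI false
set_option maxHeartbeats 1000000

universe u

open CategoryTheory CategoryTheory.Limits AlgebraicGeometry IsLocalRing
open Groth.Agent.SHBaseChangeLib Groth.Agent.AcycCritLib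
open scoped TensorProduct

noncomputable section

namespace Groth.Agent.UAcycBCLib

/-- Spectra of a tensor product decomposition form a cartesian square. -/
theorem isPullback_SpecMap_tensor {RS RS' RX RX' : Type u} [CommRing RS] [CommRing RS'] [CommRing RX] [CommRing RX']
    [Algebra RS RS'] [Algebra RS RX] [Algebra RS' RX'] [Algebra RX RX'] [Algebra RS RX']
    [IsScalarTower RS RS' RX'] [IsScalarTower RS RX RX']
    (h : Function.Bijective (Algebra.TensorProduct.lift (IsScalarTower.toAlgHom RS RS' RX')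
      (IsScalarTower.toAlgHom RS RX RX') (fun _ _ => Commute.all _ _))) :
    IsPullback (Spec.map (CommRingCat.ofHom (algebraMap RS' RX'))) (Spec.map (CommRingCat.ofHom (algebraMap RX RX')))
      (Spec.map (CommRingCat.ofHom (algebraMap RS RS'))) (Spec.map (CommRingCat.ofHom (algebraMap RS RX))) := by
  refine isPullback_SpecMap_of_isPushout _ _ _ _ ?_
  let θ := (RingEquiv.ofBijective (Algebra.TensorProduct.lift (IsScalarTower.toAlgHom RS RS' RX')
      (IsScalarTower.toAlgHom RS RX RX') (fun _ _ => Commute.all _ _)).toRingHom h).toCommRingCatIso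
  refine (CommRingCat.isPushout_tensorProduct RS RS' RX).of_iso (Iso.refl _) (Iso.refl _) (Iso.refl _) θ ?_ ?_ ?_ ?_
  · simp
  · simp
  · refine CommRingCat.hom_ext (RingHom.ext fun r => ?_)
    show Algebra.TensorProduct.lift (IsScalarTower.toAlgHom RS RS' RX') (IsScalarTower.toAlgHom RS RX RX')
      (fun _ _ => Commute.all _ _) (r ⊗ₜ 1) = algebraMap RS' RX' r
    simp
  · refine CommRingCat.hom_ext (RingHom.ext fun r => ?_)
    show Algebra.TensorProduct.lift (IsScalarTower.toAlgHom RS RS' RX') (IsScalarTower.toAlgHom RS RX RX')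
      (fun _ _ => Commute.all _ _) (1 ⊗ₜ r) = algebraMap RX RX' r
    simp

/-- Acyclic geometric fibres of the strict localizations are preserved by base changes along which strict local maps
are integral. -/
theorem strictFibres_baseChange {X S S' X' : Scheme.{u}} {f : X ⟶ S} {g : S' ⟶ S} {f' : X' ⟶ S'} {g' : X' ⟶ X}
    (h : IsPullback g' f' f g)
    (hchart : ∀ s' : S', ∃ (U : S.Opens) (U' : S'.Opens) (e : U' ≤ g ⁻¹ᵁ U), IsAffineOpen U ∧ IsAffineOpen U' ∧
      s' ∈ U' ∧ IsIndQuasiFinite (g.appLE U U' e).hom)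
    {L : Set ℕ} {n : ℕ} (hf : StrictFibres f L n) : StrictFibres f' L n := by
  intro x' RS' RX' _ _ _ _ _ _ _ _ _ _ _ _ hc
  let x := g' x'
  let A := S.presheaf.stalk (f x)
  let B := S'.presheaf.stalk (f' x')
  let C := X.presheaf.stalk x
  let O := X'.presheaf.stalk x'
  have hs' : g (f' x') = f x := by
    show g (f' x') = f (g' x')
    rw [← Scheme.Hom.comp_apply, ← Scheme.Hom.comp_apply, h.w]
  let αB : A ⟶ B := (S.presheaf.stalkCongr (Inseparable.of_eq hs'.symm)).hom ≫ g.stalkMap (f' x')
  let αC : A ⟶ C := f.stalkMap x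
  have eB : Spec.map αB ≫ S.fromSpecStalk (f x) = S'.fromSpecStalk (f' x') ≫ g :=
    specMap_congr_fromSpecStalk hs' (g.stalkMap (f' x')) _ (Scheme.SpecMap_stalkMap_fromSpecStalk g)
  have eC : Spec.map αC ≫ S.fromSpecStalk (f x) = X.fromSpecStalk x ≫ f := Scheme.SpecMap_stalkMap_fromSpecStalk f
  have hcomm : αB ≫ f'.stalkMap x' = αC ≫ g'.stalkMap x' := Spec.map_injective (by
    refine (cancel_mono (S.fromSpecStalk (f x))).1 ?_
    rw [Spec.map_comp αB, Spec.map_comp αC, Category.assoc, Category.assoc, eB, eC, ← Category.assoc,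
      ← Category.assoc, Scheme.SpecMap_stalkMap_fromSpecStalk f', Scheme.SpecMap_stalkMap_fromSpecStalk g',
      Category.assoc, Category.assoc, h.w])
  -- strict henselisations downstairs
  haveI hX' : Hensel.IsStrictHenselization (X'.presheaf.stalk x') RX' := inferInstance
  haveI hS' : Hensel.IsStrictHenselization (S'.presheaf.stalk (f' x')) RS' := inferInstanceAs (Hensel.IsStrictHenselization (S'.presheaf.stalk (f'.base x')) RS')
  haveI : HenselianLocalRing RX' := hX'.henselian
  haveI : IsSepClosed (ResidueField RX') := hX'.isSepClosure.sep_closed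
  haveI : HenselianLocalRing RS' := hS'.henselian
  haveI : IsSepClosed (ResidueField RS') := hS'.isSepClosure.sep_closed
  obtain ⟨RS, _, _, _, _, hRS⟩ := Groth.Agent.S0537.result (S.presheaf.stalk (f x))
  obtain ⟨RX, _, _, _, _, hRX⟩ := Groth.Agent.S0537.result (X.presheaf.stalk x)
  haveI : IsLocalHom αB.hom := by
    haveI : IsLocalHom (g.stalkMap (f' x')).hom := inferInstance
    show IsLocalHom ((g.stalkMap (f' x')).hom.comp (S.presheaf.stalkCongr (Inseparable.of_eq hs'.symm)).hom.hom)
    exact RingHom.isLocalHom_comp _ _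
  haveI : IsLocalHom αC.hom := inferInstanceAs (IsLocalHom (f.stalkMap x).hom)
  haveI : IsLocalHom (g'.stalkMap x').hom := inferInstance
  haveI : IsLocalHom ((algebraMap (X'.presheaf.stalk x') RX').comp (g'.stalkMap x').hom) := RingHom.isLocalHom_comp _ _
  obtain ⟨σ, hσ, hσl⟩ := exists_map_to_henselian (RA := RX)
    ((algebraMap (X'.presheaf.stalk x') RX').comp (g'.stalkMap x').hom)
  haveI : IsLocalHom ((algebraMap (S'.presheaf.stalk (f' x')) RS').comp αB.hom) := RingHom.isLocalHom_comp _ _
  obtain ⟨k₀, hk₀, hk₀l⟩ := exists_map_to_henselian (RA := RS)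
    ((algebraMap (S'.presheaf.stalk (f' x')) RS').comp αB.hom)
  haveI := hσl
  haveI := hk₀l
  haveI : IsLocalHom ((algebraMap RS' RX').comp k₀) := RingHom.isLocalHom_comp _ _
  obtain ⟨ψ, hψ, hψl, hψσ⟩ := exists_map_factor (RA := RS) (RB := RX) αC.hom σ ((algebraMap RS' RX').comp k₀) (by
    rw [RingHom.comp_assoc, hk₀, ← RingHom.comp_assoc, hσ, RingHom.comp_assoc]
    refine (congrArg (fun r => RingHom.comp r αB.hom) hc).trans ?_
    rw [RingHom.comp_assoc]
    exact congrArg (fun m : A ⟶ O => (algebraMap (X'.presheaf.stalk x') RX').comp m.hom) hcomm)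
  letI : Algebra RS RX := ψ.toAlgebra
  haveI : IsLocalHom (algebraMap RS RX) := hψl
  letI : Algebra RX RX' := σ.toAlgebra
  haveI : IsLocalHom (algebraMap RX RX') := hσl
  letI : Algebra RS RS' := k₀.toAlgebra
  haveI : IsLocalHom (algebraMap RS RS') := hk₀l
  letI : Algebra RS RX' := ((algebraMap RS' RX').comp k₀).toAlgebra
  haveI : IsScalarTower RS RS' RX' := IsScalarTower.of_algebraMap_eq fun _ => rfl
  haveI : IsScalarTower RS RX RX' := IsScalarTower.of_algebraMap_eq fun a => (RingHom.congr_fun hψσ a).symm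
  haveI : Algebra.IsIntegral RS RS' :=
    isIntegral_strict_of_chart' g (f' x') (f x) hs' (hchart (f' x')) RS RS' hk₀
  -- the local ring upstairs
  letI : Algebra (S.presheaf.stalk (f x)) (S'.presheaf.stalk (f' x')) := αB.hom.toAlgebra
  letI : Algebra (S.presheaf.stalk (f x)) (X.presheaf.stalk x) := αC.hom.toAlgebra
  letI : Algebra (S.presheaf.stalk (f x)) (X'.presheaf.stalk x') := (αB ≫ f'.stalkMap x').hom.toAlgebra
  let lB : S'.presheaf.stalk (f' x') →ₐ[S.presheaf.stalk (f x)] X'.presheaf.stalk x' :=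
    ⟨(f'.stalkMap x').hom, fun _ => rfl⟩
  let lC : X.presheaf.stalk x →ₐ[S.presheaf.stalk (f x)] X'.presheaf.stalk x' :=
    ⟨(g'.stalkMap x').hom, fun a => (congrArg (fun m : A ⟶ O => m.hom a) hcomm).symm⟩
  let Φ := Algebra.TensorProduct.lift lB lC fun _ _ => Commute.all _ _
  letI : Algebra (S'.presheaf.stalk (f' x') ⊗[S.presheaf.stalk (f x)] X.presheaf.stalk x) (X'.presheaf.stalk x') :=
    Φ.toRingHom.toAlgebra
  have hl : ∀ b, Φ (b ⊗ₜ 1) = (f'.stalkMap x').hom b := fun b => by simp [Φ, lB]
  have hr : ∀ c, Φ (1 ⊗ₜ c) = (g'.stalkMap x').hom c := fun c => by simp [Φ, lC]; rfl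
  haveI := isLocalization_stalk_pullback h x' (f x) rfl hs' (RingHom.algebraMap_toAlgebra αB.hom)
    ((RingHom.algebraMap_toAlgebra αC.hom).trans (by simp [αC, TopCat.Presheaf.stalkCongr]; try rfl)) hl hr
  have hbij := bijective_lift_strict (S.presheaf.stalk (f x)) (S'.presheaf.stalk (f' x')) (X.presheaf.stalk x)
    ((maximalIdeal (X'.presheaf.stalk x')).comap
      (algebraMap (S'.presheaf.stalk (f' x') ⊗[S.presheaf.stalk (f x)] X.presheaf.stalk x) (X'.presheaf.stalk x')))
    (X'.presheaf.stalk x') RS RS' RX RX'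
    (fun a => RingHom.congr_fun hk₀ a) (fun a => RingHom.congr_fun hψ a)
    (fun b => (RingHom.congr_fun hc b).trans (congrArg (algebraMap (X'.presheaf.stalk x') RX') (hl b)).symm)
    (fun c => (RingHom.congr_fun hσ c).trans (congrArg (algebraMap (X'.presheaf.stalk x') RX') (hr c)).symm)
  haveI : IsIntegralHom (Spec.map (CommRingCat.ofHom k₀)) :=
    IsIntegralHom.SpecMap_iff.2 (Algebra.IsIntegral.isIntegral (R := RS) (A := RS'))
  refine geomFibres_baseChange (Spec.map (CommRingCat.ofHom ψ)) (hf x RS RX hψ) _ (Spec.map (CommRingCat.ofHom k₀))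
    (Spec.map (CommRingCat.ofHom σ)) ?_ (fun t => QuotLib.isIntegral_residueFieldMap' _ t)
  exact (isPullback_SpecMap_tensor hbij).flip

end Groth.Agent.UAcycBCLib
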