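import Groth.Agent.UAcycBCLib.Degree
import Groth.Agent.UAcycBCLib.StrictBC

/-!
# Base change of open immersions along morphisms with acyclic fibres of strict localizations
-/

set_option autoImplicit false
set_option linter.style.haveILetI false
set_option linter.unusedSectionVars false
set_option backward.isDefEq.respectTransparency false
set_option backward.isDefEq.respectTransparency.types false
set_option maxHeartbeats 1000000
set_option synthInstance.maxHeartbeats 400000

universe u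

open CategoryTheory CategoryTheory.Limits AlgebraicGeometry Opposite IsLocalRing
open Groth.Agent.EtPtsLib Groth.Agent.SmoothBCLib Groth.Agent.AcycCritLib

noncomputable section

namespace Groth.Agent.UAcycBCLib

attribute [local instance] Groth.Agent.S0101.result

variable {L : Set ℕ} {n : ℕ}

theorem isIntegral_residueFieldMap_openImmersion {A B : Scheme.{u}} (j : A ⟶ B) [IsOpenImmersion j] (a : A) :
    (j.residueFieldMap a).hom.IsIntegral :=
  RingHom.isIntegral_of_surjective _ (asIso (j.residueFieldMap a)).commRingCatIsoToRingEquiv.surjective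

theorem isIntegral_residueFieldMap_comp {A B C : Scheme.{u}} (p : A ⟶ B) (q : B ⟶ C) (a : A)
    (hp : (p.residueFieldMap a).hom.IsIntegral) (hq : (q.residueFieldMap (p a)).hom.IsIntegral) :
    ((p ≫ q).residueFieldMap a).hom.IsIntegral := by
  rw [Scheme.residueFieldMap_comp, CommRingCat.hom_comp]
  exact RingHom.IsIntegral.trans _ _ hq hp

variable {Y' Y X X' : Scheme.{u}} {g : Y' ⟶ Y}

/-- A torsion sheaf on a quasi-compact open of an affine scheme embeds in one with good base change behaviour. -/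
theorem goodEmb_open [IsAffine Y] [QuasiCompact g] [QuasiSeparated g] (hg : StrictFibres g L n)
    (f : X ⟶ Y) (f' : X' ⟶ Y') (g' : X' ⟶ X) [IsOpenImmersion f] [QuasiCompact f]
    (h : IsPullback g' f' f g) : GoodEmb f f' g' h.w L n := by
  intro F hF
  obtain ⟨T₀, p₀, hT₀, hp₀, _, halg₀⟩ := exists_algCover Y
  haveI := hp₀
  haveI : QuasiCompact p₀ := quasiCompact_of_compactSpace p₀
  let p := pullback.snd p₀ f
  haveI : Surjective p := MorphismProperty.pullback_snd _ _ ‹_›
  have hT : AlgFields (pullback p₀ f) := hT₀.of_openImmersion (pullback.fst p₀ f)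
  haveI : QuasiCompact p := MorphismProperty.pullback_snd _ _ ‹_›
  haveI : QuasiSeparated p := MorphismProperty.pullback_snd _ _ inferInstance
  have halg₁ : ∀ t, ((p ≫ f).residueFieldMap t).hom.IsIntegral := fun t =>
    (congrArg (fun m => (m.residueFieldMap t).hom.IsIntegral) (pullback.condition (f := p₀) (g := f))).mp
      (isIntegral_residueFieldMap_comp _ _ t (isIntegral_residueFieldMap_openImmersion _ t) (halg₀ _))
  have halg : ∀ t, (p.residueFieldMap t).hom.IsIntegral := fun t => by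
    have h1 := halg₁ t
    rw [Scheme.residueFieldMap_comp, CommRingCat.hom_comp] at h1
    exact RingHom.IsIntegral.tower_top (f.residueFieldMap _).hom _ h1
  haveI : IsOpenImmersion f' := MorphismProperty.of_isPullback (P := @IsOpenImmersion) h ‹_›
  haveI : QuasiCompact g' := MorphismProperty.of_isPullback (P := @QuasiCompact) h.flip ‹_›
  haveI : QuasiSeparated g' := MorphismProperty.of_isPullback (P := @QuasiSeparated) h.flip ‹_›
  have hg' : StrictFibres g' L n := by
    refine strictFibres_of_comp_weaklyEtale g' f ?_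
    rw [h.w]
    exact strictFibres_weaklyEtale_comp f' g hg
  let N := (EtCoh.pull p).obj F
  have hN : EtAcyc.IsLTorsion L N := AcycCompLib.isLTorsion_pull p hF
  let p' := pullback.snd p g'
  let b := pullback.fst p g'
  have sq : IsPullback b p' p g' := IsPullback.of_hasPullback p g'
  have hbc : ∀ i ≤ n, IsIso (EtBC.bcQ p g' p' b sq.w i N) := fun i hi =>
    isIso_bcQ_algCover g' hg' p hT halg b p' sq N hN i hi
  have hbc₁ : ∀ i ≤ n, IsIso (EtBC.bcQ (p ≫ f) g (p' ≫ f') b (sq.paste_vert h).w i N) := fun i hi =>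
    isIso_bcQ_algCover g hg (p ≫ f) hT halg₁ b (p' ≫ f') (sq.paste_vert h) N hN i hi
  haveI := isIso_baseChange0_of p p' b sq.w N (hbc 0 n.zero_le)
  let e := asIso (EtCoh.baseChange0 p g' p' b sq.w N)
  refine ⟨(EtCoh.push p).obj N, (EtCoh.pullPushAdj p).unit.app F, EtPtsLib.mono_unit_of_surjective p F,
    isLTorsion_push p hN, ?_, fun q => isZero_Rpush_push p f N (fun j => hT.isZero_Rpush p N j)
      (hT.isZero_Rpush (p ≫ f) N q), fun q hq => ?_⟩
  · haveI := isIso_baseChange0_of (p ≫ f) (p' ≫ f') b (sq.paste_vert h).w N (hbc₁ 0 n.zero_le)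
    haveI : IsIso (EtCoh.baseChange0 f g f' g' h.w ((EtCoh.push p).obj N) ≫
        (EtCoh.push f').map (EtCoh.baseChange0 p g' p' b sq.w N) ≫ (EtCoh.pushComp f' p').hom.app _) := by
      rw [← baseChange0_hcomp p f g g' f' p' b sq.w h.w (sq.paste_vert h).w N]
      infer_instance
    exact IsIso.of_isIso_comp_right _ ((EtCoh.push f').map (EtCoh.baseChange0 p g' p' b sq.w N) ≫
      (EtCoh.pushComp f' p').hom.app _)
  · haveI : (EtCoh.pull g').Additive := (EtCoh.pullPushAdj g').left_adjoint_additive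
    haveI : (EtCoh.pull g).Additive := (EtCoh.pullPushAdj g).left_adjoint_additive
    have hac : AcycUpTo (EtCoh.push p') q ((EtCoh.pull b).obj N) := fun j hj => by
      haveI := hbc (j + 1) (by omega)
      exact ((EtCoh.pull g').map_isZero (hT.isZero_Rpush p N j)).of_iso
        (asIso (EtBC.bcQ p g' p' b sq.w (j + 1) N)).symm
    have hc : IsZero ((EtCoh.Rpush (p' ≫ f') (q + 1)).obj ((EtCoh.pull b).obj N)) := by
      haveI := hbc₁ (q + 1) hq
      exact ((EtCoh.pull g).map_isZero (hT.isZero_Rpush (p ≫ f) N q)).of_iso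
        (asIso (EtBC.bcQ (p ≫ f) g (p' ≫ f') b (sq.paste_vert h).w (q + 1) N)).symm
    exact (isZero_rightDerived_of_comp (EtCoh.push p') (EtCoh.push f') q _ hac
      (hc.of_iso ((RDer.rightDerivedIso (EtCoh.pushComp f' p') (q + 1)).app _))).of_iso
        ((EtCoh.Rpush f' (q + 1)).mapIso e)

theorem strictFibres_baseChange_etale {Y₁ X₁ : Scheme.{u}} (hg : StrictFibres g L n) {g₁ : X₁ ⟶ Y₁} {a : X₁ ⟶ Y'}
    {b : Y₁ ⟶ Y} [WeaklyEtale a] [WeaklyEtale b] (w : g₁ ≫ b = a ≫ g) : StrictFibres g₁ L n := by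
  refine strictFibres_of_comp_weaklyEtale g₁ b ?_
  rw [w]
  exact strictFibres_weaklyEtale_comp a g hg

/-- **Base change of quasi-compact open immersions** in degrees `≤ n`. -/
theorem isIso_bcQ_open (hg : StrictFibres g L n) (f : X ⟶ Y) (f' : X' ⟶ Y') (g' : X' ⟶ X) [IsOpenImmersion f]
    [QuasiCompact f] (h : IsPullback g' f' f g) (q : ℕ) (hq : q ≤ n) (F : EtCoh.Ab X) (hF : EtAcyc.IsLTorsion L F) :
    IsIso (EtBC.bcQ f g f' g' h.w q F) := by
  let 𝒲 := Y.affineCover
  let 𝒱 : ∀ i, (pullback g (𝒲.f i)).OpenCover := fun i => (pullback g (𝒲.f i)).affineCover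
  let I := Σ i : 𝒲.I₀, (𝒱 i).I₀
  let V : I → Y.Etale := fun k => MorphismProperty.Over.mk ⊤ (𝒲.f k.1) inferInstance
  let a : ∀ k : I, (𝒱 k.1).X k.2 ⟶ 𝒲.X k.1 := fun k => (𝒱 k.1).f k.2 ≫ pullback.snd g (𝒲.f k.1)
  let U : I → Y'.Etale := fun k => MorphismProperty.Over.mk ⊤ ((𝒱 k.1).f k.2 ≫ pullback.fst g (𝒲.f k.1)) inferInstance
  have hU : EtCoh.Covers U := fun x => by
    obtain ⟨i, y, hy⟩ := 𝒲.exists_eq (g x)
    obtain ⟨z, hz, -⟩ := Scheme.Pullback.exists_preimage_pullback (f := g) (g := 𝒲.f i) x y hy.symm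
    obtain ⟨j, z', hz'⟩ := (𝒱 i).exists_eq z
    exact ⟨⟨i, j⟩, z', (Scheme.Hom.comp_apply _ _ _).trans ((congrArg (pullback.fst g (𝒲.f i)) hz').trans hz)⟩
  refine BCVertLib.isIso_bcQ_of_local g f f' g' h F q U hU V a
    (fun k => by simp [a, U, V, pullback.condition]) (fun k => pullback f (𝒲.f k.1))
    (fun k => pullback (pullback.snd f (𝒲.f k.1)) (a k))
    (fun k => pullback.snd f (𝒲.f k.1)) (fun k => pullback.fst f (𝒲.f k.1))
    (fun k => IsPullback.of_hasPullback f (𝒲.f k.1))
    (fun k => pullback.snd _ _) (fun k => pullback.fst _ _) (fun k => IsPullback.of_hasPullback _ _) fun k => ?_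
  haveI : IsAffine ((𝒱 k.1).X k.2) := inferInstanceAs (IsAffine ((pullback g (𝒲.f k.1)).affineCover.X _))
  haveI : IsAffine (𝒲.X k.1) := inferInstance
  haveI : QuasiCompact (a k) := inferInstance
  haveI : QuasiSeparated (a k) := inferInstance
  have hga : StrictFibres (a k) L n :=
    strictFibres_baseChange_etale (g₁ := a k) (a := (𝒱 k.1).f k.2 ≫ pullback.fst g (𝒲.f k.1)) (b := 𝒲.f k.1) hg
      (by simp [a, pullback.condition])
  haveI : QuasiCompact (pullback.snd f (𝒲.f k.1)) := MorphismProperty.pullback_snd _ _ ‹_›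
  exact isIso_bcQ_of_goodEmb (L := L) _ _ _ (IsPullback.of_hasPullback _ _).w
    (goodEmb_open hga _ _ _ (IsPullback.of_hasPullback _ _)) q hq _ (AcycCompLib.isLTorsion_pull _ hF)

/-- The same after a locally quasi-finite base change. -/
theorem isIso_bcQ_open_qf {Y₁ X₁ : Scheme.{u}} (hg : StrictFibres g L n) (i : Y₁ ⟶ Y) [LocallyQuasiFinite i]
    [LocallyOfFiniteType i] {g₁ : X₁ ⟶ Y₁} {i₁ : X₁ ⟶ Y'} (sq : IsPullback i₁ g₁ g i)
    (f : X ⟶ Y₁) (f' : X' ⟶ X₁) (g' : X' ⟶ X) [IsOpenImmersion f]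
    [QuasiCompact f] (h : IsPullback g' f' f g₁) (q : ℕ) (hq : q ≤ n) (F : EtCoh.Ab X) (hF : EtAcyc.IsLTorsion L F) :
    IsIso (EtBC.bcQ f g₁ f' g' h.w q F) :=
  isIso_bcQ_open (strictFibres_baseChange sq (SHBaseChangeLib.exists_chart_quasiFinite i) hg) f f' g' h q hq F hF

end Groth.Agent.UAcycBCLib
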