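import Groth.Agent.AcycCritLib.Range
import Groth.Agent.SmoothBCLib.LineAcyclic
import Groth.Agent.GeomIrred.Scheme
import Groth.Agent.PBCLib.Final
import Groth.Agent.ConstGenLib.SepPoint
import Groth.Agent.EtVanish.Henselian

/-!
# Geometric fibres of universally locally acyclic morphisms

If every base change of a morphism of strictly local schemes has `n`-acyclic geometric fibres on its strict
localizations, then its own geometric fibres are `n`-acyclic at all geometric points, algebraic or not.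
-/

set_option autoImplicit false
set_option linter.style.haveILetI false
set_option linter.unusedSectionVars false
set_option backward.isDefEq.respectTransparency false
set_option backward.isDefEq.respectTransparency.types false
set_option maxHeartbeats 1000000
set_option synthInstance.maxHeartbeats 400000

universe u

open CategoryTheory CategoryTheory.Limits AlgebraicGeometry Opposite IsLocalRing
open Groth.Agent.EtPtsLib Groth.Agent.SmoothBCLib Groth.Agent.AcycCritLib

noncomputable section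

namespace Groth.Agent.UAcycBCLib

attribute [local instance] Groth.Agent.S0101.result

variable {L : Set ℕ} {n : ℕ}

/-- Every base change has acyclic geometric fibres on its strict localizations. -/
def UStrictFibres {X Y : Scheme.{u}} (g : X ⟶ Y) (L : Set ℕ) (n : ℕ) : Prop :=
  ∀ ⦃X₁ Y₁ : Scheme.{u}⦄ (g₁ : X₁ ⟶ Y₁) (b' : X₁ ⟶ X) (b : Y₁ ⟶ Y), IsPullback b' g₁ g b → StrictFibres g₁ L n

theorem uStrictFibres_of_isULocAcyclicN {X Y : Scheme.{u}} (g : X ⟶ Y) (hL : ∃ ℓ ∈ L, ℓ.Prime)
    (hg : EtAcyc.IsULocAcyclicN g L n) : UStrictFibres g L n :=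
  fun _ _ g₁ b' b sq => strictFibres_of_isLocAcyclicN g₁ hL (hg g₁ b' b sq)

theorem UStrictFibres.self {X Y : Scheme.{u}} {g : X ⟶ Y} (hg : UStrictFibres g L n) : StrictFibres g L n :=
  hg g (𝟙 X) (𝟙 Y) IsPullback.of_id_fst

theorem UStrictFibres.baseChange {X Y X₁ Y₁ : Scheme.{u}} {g : X ⟶ Y} (hg : UStrictFibres g L n) {g₁ : X₁ ⟶ Y₁}
    {b' : X₁ ⟶ X} {b : Y₁ ⟶ Y} (sq : IsPullback b' g₁ g b) : UStrictFibres g₁ L n :=
  fun _ _ g₂ c' c sq₂ => hg g₂ (c' ≫ b') (c ≫ b) (sq₂.paste_horiz sq)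

theorem UStrictFibres.weaklyEtale_comp {X' X Y : Scheme.{u}} {g : X ⟶ Y} (hg : UStrictFibres g L n) (a : X' ⟶ X)
    [WeaklyEtale a] : UStrictFibres (a ≫ g) L n := by
  intro X₁ Y₁ h b' b sq
  let l : X₁ ⟶ pullback g b := pullback.lift (b' ≫ a) h (by rw [Category.assoc, sq.w])
  have hl : l ≫ pullback.snd g b = h := pullback.lift_snd _ _ _
  have sq₀ : IsPullback b' (l ≫ pullback.snd g b) (a ≫ g) b := hl.symm ▸ sq
  have sql : IsPullback b' l a (pullback.fst g b) :=
    IsPullback.of_bot sq₀ (pullback.lift_fst _ _ _).symm (IsPullback.of_hasPullback g b)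
  haveI : WeaklyEtale l := MorphismProperty.of_isPullback (P := @WeaklyEtale) sql ‹_›
  rw [← hl]
  exact strictFibres_weaklyEtale_comp l _ (hg _ _ _ (IsPullback.of_hasPullback g b))

/-- The maps of strict localizations of such a morphism are again such. -/
theorem UStrictFibres.strictLoc {X Y : Scheme.{u}} {g : X ⟶ Y} (hg : UStrictFibres g L n) (x : X)
    (RS : Type u) [CommRing RS] [IsLocalRing RS] [Algebra (Y.presheaf.stalk (g.base x)) RS]
    [IsLocalHom (algebraMap (Y.presheaf.stalk (g.base x)) RS)]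
    [Hensel.IsStrictHenselization (Y.presheaf.stalk (g.base x)) RS]
    (RX : Type u) [CommRing RX] [IsLocalRing RX] [Algebra (X.presheaf.stalk x) RX]
    [IsLocalHom (algebraMap (X.presheaf.stalk x) RX)] [Hensel.IsStrictHenselization (X.presheaf.stalk x) RX]
    (ψ : RS →+* RX)
    (hψ : ψ.comp (algebraMap (Y.presheaf.stalk (g.base x)) RS) =
      (algebraMap (X.presheaf.stalk x) RX).comp (g.stalkMap x).hom) :
    UStrictFibres (Spec.map (CommRingCat.ofHom ψ)) L n := by
  let σ := Hens2.specOf Y (g.base x) RS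
  have hspec : Hens2.specOf X x RX ≫ g = Spec.map (CommRingCat.ofHom ψ) ≫ σ := by
    show (Spec.map _ ≫ X.fromSpecStalk x) ≫ g = Spec.map _ ≫ Spec.map _ ≫ Y.fromSpecStalk (g.base x)
    rw [Category.assoc, ← Scheme.SpecMap_stalkMap_fromSpecStalk, ← Category.assoc, ← Category.assoc, ← Spec.map_comp,
      ← Spec.map_comp]
    exact congrArg (fun m => Spec.map m ≫ Y.fromSpecStalk (g.base x)) (CommRingCat.hom_ext hψ.symm)
  haveI := ProEtSLib.weaklyEtale_specOf X x RX
  haveI := ProEtSLib.weaklyEtale_specOf Y (g.base x) RS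
  haveI : WeaklyEtale (pullback.fst g σ) := MorphismProperty.pullback_fst _ _ ‹_›
  let l : Spec (CommRingCat.of RX) ⟶ pullback g σ := pullback.lift (Hens2.specOf X x RX) _ hspec
  haveI : WeaklyEtale (l ≫ pullback.fst g σ) := by rw [pullback.lift_fst]; infer_instance
  haveI : WeaklyEtale l := WeaklyEtale.of_comp l (pullback.fst g σ)
  have h := (hg.baseChange (IsPullback.of_hasPullback g σ)).weaklyEtale_comp l
  rwa [pullback.lift_snd] at h

/-- The spectrum of an algebraically closed field has algebraically closed local rings. -/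
theorem algFields_spec_field (K : Type u) [Field K] [IsAlgClosed K] : AlgFields (Spec (CommRingCat.of K)) := by
  let e : CommRingCat.of (PUnit.{u + 1} → K) ≅ CommRingCat.of K :=
    (RingEquiv.piUnique (fun _ : PUnit.{u + 1} => K)).toCommRingCatIso
  exact (algFields_spec_pi (fun _ : PUnit.{u + 1} => K)).of_etale (Spec.map e.hom)

theorem primesIn_of_prime {ℓ : ℕ} (hℓ : ℓ.Prime) (hℓL : ℓ ∈ L) : EtAcyc.PrimesIn L ℓ :=
  ⟨hℓ.pos, fun _ hp hd => ((Nat.prime_dvd_prime_iff_eq hp hℓ).1 hd).symm ▸ hℓL⟩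

section Proper

variable {RS RX : Type u} [CommRing RS] [CommRing RX] [HenselianLocalRing RX]
  [IsSepClosed (ResidueField RX)] (ψ : RS →+* RX)

/-- The fibre at the image of an algebraic point of a proper scheme over the base. -/
theorem subsingleton_H_fibre_proper (hψ : UStrictFibres (Spec.map (CommRingCat.ofHom ψ)) L n) {P : Scheme.{u}}
    (p : P ⟶ Spec (CommRingCat.of RS)) [IsProper p] {K : Type u} [Field K] [IsAlgClosed K]
    (η : Spec (CommRingCat.of K) ⟶ P) (hη : PBCLib.IsAlgPt η) [QuasiCompact η] [QuasiSeparated η]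
    {ℓ : ℕ} (hℓ : ℓ.Prime) (hℓL : ℓ ∈ L) (q : ℕ) (hq : 1 ≤ q) (hqn : q ≤ n) :
    Subsingleton (EtCoh.H (pullback (Spec.map (CommRingCat.ofHom ψ)) (η ≫ p))
      (EtCoh.const _ (ZMod ℓ)) q) := by
  let w := Spec.map (CommRingCat.ofHom ψ)
  let p' := pullback.fst w p
  let ψ₁ := pullback.snd w p
  have sqp : IsPullback p' ψ₁ w p := IsPullback.of_hasPullback w p
  let a₁ := pullback.fst ψ₁ η
  let b₁ := pullback.snd ψ₁ η
  have sq₁ : IsPullback b₁ a₁ η ψ₁ := (IsPullback.of_hasPullback ψ₁ η).flip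
  haveI : QuasiCompact ψ₁ := MorphismProperty.pullback_snd _ _ inferInstance
  haveI : QuasiSeparated ψ₁ := MorphismProperty.pullback_snd _ _ inferInstance
  haveI : QuasiCompact a₁ := MorphismProperty.pullback_fst _ _ ‹_›
  haveI : QuasiSeparated a₁ := MorphismProperty.pullback_fst _ _ ‹_›
  let G := EtCoh.const (Spec (CommRingCat.of K)) (ZMod ℓ)
  let N := (EtCoh.pull b₁).obj G
  let M := (EtCoh.push η).obj G
  have hkill : EtCoh.KilledBy ℓ G := PBCLib.killedBy_const _ ℓ
  have hG : EtAcyc.IsLTorsion L G := CompBCLib.isLTorsion_of_killedBy (primesIn_of_prime hℓ hℓL) hkill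
  have hK := algFields_spec_field K
  have halg : ∀ t, (η.residueFieldMap t).hom.IsIntegral := fun t => by
    obtain rfl : t = default := Subsingleton.elim _ _
    exact hη
  have hloc : StrictFibres ψ₁ L n := hψ _ _ _ sqp
  haveI : (EtCoh.pull ψ₁).Additive := (EtCoh.pullPushAdj ψ₁).left_adjoint_additive
  -- the higher direct images to `W_P`
  have hR : ∀ j, 1 ≤ j → j ≤ n → IsZero ((EtCoh.Rpush a₁ j).obj N) := fun j hj hjn => by
    obtain ⟨i, rfl⟩ : ∃ i, j = i + 1 := ⟨j - 1, by omega⟩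
    haveI := isIso_bcQ_algCover ψ₁ hloc η hK halg b₁ a₁ sq₁ G hG (i + 1) hjn
    exact ((EtCoh.pull ψ₁).map_isZero (hK.isZero_Rpush η G i)).of_iso
      (asIso (EtBC.bcQ η ψ₁ a₁ b₁ sq₁.w (i + 1) G)).symm
  haveI := isIso_bcQ_algCover ψ₁ hloc η hK halg b₁ a₁ sq₁ G hG 0 (Nat.zero_le _)
  haveI : PreservesFiniteLimits (EtCoh.push η) :=
    (EtCoh.pullPushAdj η).rightAdjoint_preservesLimits.{0, 0}.preservesFiniteLimits
  haveI : PreservesFiniteLimits (EtCoh.push a₁) :=
    (EtCoh.pullPushAdj a₁).rightAdjoint_preservesLimits.{0, 0}.preservesFiniteLimits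
  let e₀ : (EtCoh.pull ψ₁).obj M ≅ (EtCoh.Rpush a₁ 0).obj N :=
    (EtCoh.pull ψ₁).mapIso (asIso ((EtCoh.push η).toRightDerivedZero.app G)) ≪≫
      asIso (EtBC.bcQ η ψ₁ a₁ b₁ sq₁.w 0 G)
  -- cohomology of `W_P`
  have hM : EtCoh.IsTorsion M := PBCLib.isTorsion_of_killedBy' hℓ.pos (CompBCLib.killedBy_push η hkill)
  have hW : ∀ r, 1 ≤ r → Subsingleton (EtCoh.H _ ((EtCoh.pull ψ₁).obj M) r) := fun r hr => by
    refine CdFieldLib.subsingleton_H_of_leray p' r _ fun i j hij => ?_
    rcases Nat.eq_zero_or_pos j with rfl | hj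
    · obtain ⟨i', rfl⟩ : ∃ i', i = i' + 1 := ⟨i - 1, by omega⟩
      exact EtVanish.subsingleton_H_strictlyHenselian RX _ i'
    obtain ⟨j, rfl⟩ : ∃ j', j = j' + 1 := ⟨j - 1, by omega⟩
    haveI := PBCLib.bcAll_of_proper p w p' ψ₁ sqp.flip M hM (j + 1)
    haveI : (EtCoh.pull w).Additive := (EtCoh.pullPushAdj w).left_adjoint_additive
    haveI := PBCLib.HF_additive (Spec (CommRingCat.of RX)) i
    exact AddCommGrpCat.subsingleton_of_isZero ((EtCoh.HF _ i).map_isZero
      (((EtCoh.pull w).map_isZero (ConstGenLib.isZero_Rpush_push_sepPoint η p G j)).of_iso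
        (asIso (EtBC.bcQ p w p' ψ₁ sqp.flip.w (j + 1) M)).symm))
  -- conclusion
  have hN : Subsingleton (EtCoh.H _ N q) := by
    refine CdFieldLib.subsingleton_H_of_leray a₁ q _ fun i j hij => ?_
    rcases Nat.eq_zero_or_pos j with rfl | hj
    · haveI := hW i (by omega)
      exact CdFieldLib.subsingleton_H_of_iso' e₀.symm i this
    haveI := PBCLib.HF_additive (pullback w p) i
    exact AddCommGrpCat.subsingleton_of_isZero ((EtCoh.HF _ i).map_isZero (hR j hj (by omega)))
  have sq : IsPullback (a₁ ≫ p') b₁ w (η ≫ p) := sq₁.flip.paste_horiz sqp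
  have h1 := subsingleton_H_pull_iso _ sq.isoPullback.inv (pullback.snd w (η ≫ p)) sq.isoPullback_inv_snd G q hN
  exact CdFieldLib.subsingleton_H_of_iso' (EtCore.pullConst (pullback.snd w (η ≫ p)) (ZMod ℓ)).symm q h1

/-- **Geometric fibres are acyclic at all geometric points.** -/
theorem isAcyclicSchemeN_point (hψ : UStrictFibres (Spec.map (CommRingCat.ofHom ψ)) L n)
    (hgf : EtAcyc.GeomFibresAcyclicN L n (Spec.map (CommRingCat.ofHom ψ))) {K : Type u} [Field K] [IsAlgClosed K]
    (v : Spec (CommRingCat.of K) ⟶ Spec (CommRingCat.of RS)) :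
    EtAcyc.IsAcyclicSchemeN L n (pullback (Spec.map (CommRingCat.ofHom ψ)) v) := by
  classical
  let w := Spec.map (CommRingCat.ofHom ψ)
  haveI hconn : ConnectedSpace ↥(pullback w v) := by
    obtain ⟨⟨y, i⟩, rfl⟩ :=
      (Scheme.SpecToEquivOfField K (Spec (CommRingCat.of RS))).symm.surjective v
    let S := Spec (CommRingCat.of RS)
    let k := AlgebraicClosure (S.residueField y)
    letI : Algebra (S.residueField y) K := i.hom.toAlgebra
    let σ : k →ₐ[S.residueField y] K := IsAlgClosed.lift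
    let ξ := EtAcyc.geomPt S y k
    let j := Spec.map (CommRingCat.ofHom σ.toRingHom)
    have hv : j ≫ ξ = (Scheme.SpecToEquivOfField K S).symm ⟨y, i⟩ := by
      show Spec.map _ ≫ Spec.map _ ≫ S.fromSpecResidueField y = Spec.map i ≫ S.fromSpecResidueField y
      rw [← Category.assoc, ← Spec.map_comp]
      exact congrArg (fun m => Spec.map m ≫ S.fromSpecResidueField y)
        (CommRingCat.hom_ext (RingHom.ext fun z => σ.commutes z))
    haveI : ConnectedSpace ↥(pullback w ξ) := (hgf y k).2.1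
    haveI : GeometricallyConnected (pullback.snd w ξ) :=
      GeomIrred.geometricallyConnected_of_connectedSpace (k := k) (pullback.snd w ξ)
    have sq : IsPullback (pullback.fst (pullback.snd w ξ) j ≫ pullback.fst w ξ) (pullback.snd (pullback.snd w ξ) j)
        w (j ≫ ξ) := (IsPullback.of_hasPullback _ _).paste_horiz (IsPullback.of_hasPullback w ξ)
    haveI : ConnectedSpace ↥(pullback (pullback.snd w ξ) j) :=
      GeometricallyConnected.geometrically_connectedSpace _ _ _ (IsPullback.of_hasPullback _ _)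
    let e := sq.isoPullback ≪≫ pullback.congrHom rfl hv
    exact e.hom.homeomorph.surjective.connectedSpace e.hom.continuous
  refine ⟨inferInstance, hconn, fun ℓ hℓ hℓL q hq hqn => ?_⟩
  obtain ⟨φ, rfl⟩ := Spec.map_surjective v
  refine subsingleton_H_pullback_subfields (algGen φ.hom) (fun _ _ h => algGen_mono φ.hom h)
    (fun x => ⟨{x}, mem_algGen_singleton φ.hom x⟩) φ.hom (algGenHom φ.hom) (fun _ _ => rfl) w (ZMod ℓ) q fun J => ?_
  obtain ⟨η, hη, hηa⟩ := exists_algPt_algGen φ.hom J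
  haveI := PBCLib.P1Pow.isProper_toBase J.card (Spec (CommRingCat.of RS))
  haveI : QuasiCompact η := ⟨fun U _ _ => Set.Finite.isCompact (Set.toFinite _)⟩
  haveI : IsAlgClosed (algGen φ.hom J) := isAlgClosed_algIn _
  rw [← hη]
  exact subsingleton_H_fibre_proper ψ hψ _ η hηa hℓ hℓL q hq hqn

end Proper

end Groth.Agent.UAcycBCLib
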