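import Groth.Agent.UAcycBCLib.Degree
import Groth.Agent.SmoothBCLib.Torsion
import Groth.Agent.SmoothBCLib.TorsLComplex
import Groth.Agent.CompBCLib.Derived

/-!
# The derived base change morphism along universally locally `n`-acyclic morphisms
-/

set_option autoImplicit false
set_option linter.style.haveILetI false
set_option linter.unusedSectionVars false
set_option backward.isDefEq.respectTransparency false
set_option backward.isDefEq.respectTransparency.types false
set_option maxHeartbeats 2000000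
set_option synthInstance.maxHeartbeats 400000

universe u

open CategoryTheory CategoryTheory.Limits AlgebraicGeometry Opposite
open Groth.Agent.SmoothBCLib

attribute [local instance] HasDerivedCategory.standard

noncomputable section

namespace Groth.Agent.UAcycBCLib

attribute [local instance] Groth.Agent.S0101.result

variable {L : Set ℕ} {n : ℕ}

theorem mono_H_Qh {A : Type*} [Category* A] [Abelian A] [HasDerivedCategory A] {K L : CochainComplex A ℤ}
    (ψ : K ⟶ L) (i : ℤ) (h : Mono (HomologicalComplex.homologyMap ψ i)) :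
    Mono ((DerivedCategory.homologyFunctor A i).map
      (DerivedCategory.Qh.map ((HomotopyCategory.quotient A (ComplexShape.up ℤ)).map ψ))) := by
  let e := (Functor.associator _ _ _).symm ≪≫
    Functor.isoWhiskerRight (DerivedCategory.quotientCompQhIso A) _ ≪≫ DerivedCategory.homologyFunctorFactors A i
  have h1 := e.hom.naturality ψ
  haveI : Mono ((HomologicalComplex.homologyFunctor A (ComplexShape.up ℤ) i).map ψ) := h
  have h2 : (DerivedCategory.homologyFunctor A i).map
      (DerivedCategory.Qh.map ((HomotopyCategory.quotient A (ComplexShape.up ℤ)).map ψ)) =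
      e.hom.app K ≫ (HomologicalComplex.homologyFunctor A (ComplexShape.up ℤ) i).map ψ ≫ e.inv.app L := by
    rw [← reassoc_of% h1, Iso.hom_inv_id_app]
    exact (Category.comp_id _).symm
  rw [h2]
  infer_instance

/-- The unit of `Rf_*` on a complex of objects acyclic up to `n`. -/
theorem H_unitR {X S : Scheme.{u}} (f : X ⟶ S) [DCoh.HasRpushEt X f] (C : CochainComplex (EtCoh.Ab X) ℤ)
    (a : ℤ) [C.IsStrictlyGE a] (hac : ∀ m, AcycUpTo (EtCoh.push f) n (C.X m)) (i : ℤ) :
    (i ≤ a + n → IsIso ((DerivedCategory.homologyFunctor (EtCoh.Ab S) i).map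
      ((BCDLib.unitR f).app ((HomotopyCategory.quotient _ (ComplexShape.up ℤ)).obj C)))) ∧
    (i ≤ a + n + 1 → Mono ((DerivedCategory.homologyFunctor (EtCoh.Ab S) i).map
      ((BCDLib.unitR f).app ((HomotopyCategory.quotient _ (ComplexShape.up ℤ)).obj C)))) := by
  let Φ := DerivedCategory.homologyFunctor (EtCoh.Ab S) i
  obtain ⟨J, φ, hφ, hJ, hJa⟩ := CochainComplex.Plus.modelCategoryQuillen.exists_quasiIso_injective C a
  haveI := hφ
  haveI := hJa
  haveI : ∀ m, Injective (J.X m) := hJ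
  haveI := CochainComplex.isKInjective_of_injective J a
  haveI := BCDLib.isIso_unitR f J
  let q := HomotopyCategory.quotient (EtCoh.Ab X) (ComplexShape.up ℤ)
  haveI : IsIso (DerivedCategory.Qh.map (q.map φ)) := by
    rw [DerivedCategory.isIso_Qh_map_iff]
    exact (HomotopyCategory.quotient_map_mem_quasiIso_iff φ).2 hφ
  haveI : IsIso ((DerivedCategory.Qh ⋙ DCoh.RpushEt X f).map (q.map φ)) :=
    inferInstanceAs (IsIso ((DCoh.RpushEt X f).map (DerivedCategory.Qh.map (q.map φ))))
  have nat := congrArg Φ.map ((BCDLib.unitR f).naturality (q.map φ))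
  rw [Φ.map_comp, Φ.map_comp] at nat
  let w := Φ.map (DerivedCategory.Qh.map ((HomotopyCategory.quotient (EtCoh.Ab S) (ComplexShape.up ℤ)).map
    (((EtCoh.push f).mapHomologicalComplex (ComplexShape.up ℤ)).map φ)))
  have h1 : Φ.map ((BCDLib.unitR f).app (q.obj C)) =
      w ≫ Φ.map ((BCDLib.unitR f).app (q.obj J)) ≫ inv (Φ.map ((DerivedCategory.Qh ⋙ DCoh.RpushEt X f).map (q.map φ))) := by
    rw [← Category.assoc, IsIso.eq_comp_inv]
    exact nat.symm
  have hm := homologyMap_map (n := n) (EtCoh.push f) φ a hac (fun m => acycUpTo_of_injective _ _) i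
  refine ⟨fun hi => ?_, fun hi => ?_⟩
  · haveI := hm.1 hi
    haveI : IsIso w := (CompBCLib.isIso_H_Qh_iff _ i).2
      ((quasiIsoAt_iff_isIso_homologyMap _ _).2 (hm.1 hi))
    show IsIso (Φ.map ((BCDLib.unitR f).app (q.obj C)))
    rw [h1]
    infer_instance
  · haveI : Mono w := mono_H_Qh _ i (hm.2 hi)
    show Mono (Φ.map ((BCDLib.unitR f).app (q.obj C)))
    rw [h1]
    infer_instance

variable {Y' Y X X' : Scheme.{u}} (f : X ⟶ Y) (g : Y' ⟶ Y) (f' : X' ⟶ Y') (g' : X' ⟶ X) (w : g' ≫ f = f' ≫ g)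

/-- The base change morphism of a complex on which the unit of `Rf_*` is an isomorphism, through `θ`. -/
theorem exists_bcMap_eq_θ [PreservesFiniteLimits (EtCoh.pull g)] [PreservesFiniteLimits (EtCoh.pull g')]
    [DCoh.HasRpushEt X f] [DCoh.HasRpushEt X' f'] [DCoh.HasRpushEt Y' g] (adj : EtBC.pullD g ⊣ DCoh.RpushEt Y' g)
    (K : HomotopyCategory (EtCoh.Ab X) (ComplexShape.up ℤ)) [IsIso ((BCDLib.unitR f).app K)] {E : DCoh.DEt X}
    (e : DerivedCategory.Qh.obj K ≅ E) :
    ∃ (α : (EtBC.pullD g).obj ((DCoh.RpushEt X f).obj E) ≅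
        DerivedCategory.Qh.obj ((BCDLib.pullH g).obj ((BCDLib.pushH f).obj K)))
      (β : (DCoh.RpushEt X' f').obj (DerivedCategory.Qh.obj ((BCDLib.pullH g').obj K)) ≅
        (DCoh.RpushEt X' f').obj ((EtBC.pullD g').obj E)),
      EtBC.bcMap f g f' g' w adj E = α.hom ≫ BCDLib.θ f g f' g' w K ≫ β.hom := by
  obtain ⟨a', ha'⟩ := BCDLib.exists_adj f g f' g' w
  have hnat : (EtBC.pullD g).map ((DCoh.RpushEt X f).map e.hom) ≫ EtBC.bcMap f g f' g' w adj E =
      EtBC.bcMap f g f' g' w adj (DerivedCategory.Qh.obj K) ≫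
        (DCoh.RpushEt X' f').map ((EtBC.pullD g').map e.hom) := by
    rw [EtBC.bcMap, EtBC.bcMap, ← Adjunction.homEquiv_naturality_left_symm,
      ← Adjunction.homEquiv_naturality_right_symm]
    exact congrArg _ ((EtBC.bcAdj f g f' g' w).naturality e.hom)
  have h3 : EtBC.bcMap f g f' g' w adj (DerivedCategory.Qh.obj K) =
      (adj.leftAdjointUniq a').hom.app _ ≫ EtBC.bcMap f g f' g' w a' (DerivedCategory.Qh.obj K) := by
    rw [EtBC.bcMap, Equiv.symm_apply_eq, BCVertLib.homEquiv_leftAdjointUniq_comp]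
    exact (Equiv.apply_symm_apply _ _).symm
  let u := (EtBC.pullD g).mapIso (asIso ((BCDLib.unitR f).app K))
  let v := (EtCoh.pull g).mapDerivedCategoryFactorsh.app ((BCDLib.pushH f).obj K)
  refine ⟨(EtBC.pullD g).mapIso ((DCoh.RpushEt X f).mapIso e.symm) ≪≫ (adj.leftAdjointUniq a').app _ ≪≫ u.symm ≪≫ v,
    (DCoh.RpushEt X' f').mapIso ((EtCoh.pull g').mapDerivedCategoryFactorsh.symm.app K ≪≫
      (EtBC.pullD g').mapIso e), ?_⟩
  have h5 : EtBC.bcMap f g f' g' w a' (DerivedCategory.Qh.obj K) = u.inv ≫ v.hom ≫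
      BCDLib.θ f g f' g' w K ≫ (DCoh.RpushEt X' f').map ((EtCoh.pull g').mapDerivedCategoryFactorsh.inv.app K) :=
    (Iso.eq_inv_comp u).2 (ha' K)
  have h6 : EtBC.bcMap f g f' g' w adj E = (EtBC.pullD g).map ((DCoh.RpushEt X f).map e.inv) ≫
      EtBC.bcMap f g f' g' w adj (DerivedCategory.Qh.obj K) ≫
        (DCoh.RpushEt X' f').map ((EtBC.pullD g').map e.hom) := by
    rw [← hnat, ← Functor.map_comp_assoc, ← Functor.map_comp, e.inv_hom_id]
    simp
  rw [h6, h3, h5]
  simp

variable [PreservesFiniteLimits (EtCoh.pull g)] [PreservesFiniteLimits (EtCoh.pull g')] [QuasiCompact f]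
  [QuasiSeparated f] [DCoh.HasRpushEt X f] [DCoh.HasRpushEt X' f'] [DCoh.HasRpushEt Y' g]
  (adj : EtBC.pullD g ⊣ DCoh.RpushEt Y' g)

/-- **Base change along a universally locally `n`-acyclic morphism, derived form.** -/
theorem H_bcMap_single (h : IsPullback g' f' f g)
    (hbc : ∀ q : ℕ, q ≤ n → ∀ G : EtCoh.Ab X, EtAcyc.IsLTorsion L G → IsIso (EtBC.bcQ f g f' g' h.w q G))
    (F : EtCoh.Ab X)
    (hF : EtAcyc.IsLTorsion L F) (i : ℤ) :
    (i ≤ n → IsIso ((DerivedCategory.homologyFunctor (EtCoh.Ab Y') i).map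
      (EtBC.bcMap f g f' g' h.w adj (EtBC.single X F)))) ∧
    (i ≤ (n : ℤ) + 1 → Mono ((DerivedCategory.homologyFunctor (EtCoh.Ab Y') i).map
      (EtBC.bcMap f g f' g' h.w adj (EtBC.single X F)))) := by
  let R := InjectiveResolution.of F
  let C := R.cochainComplex
  haveI : ∀ j, Injective (C.X j) := fun j => inferInstance
  have hC : ∀ j, EtAcyc.IsLTorsion L (C.homology j) := fun j => by
    have hsingle : EtAcyc.IsLTorsion L (((CochainComplex.singleFunctor (EtCoh.Ab X) 0).obj F).homology j) := by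
      rcases eq_or_ne j 0 with rfl | hj
      · exact CdFieldLib.isLTorsion_of_epi (HomologicalComplex.singleObjHomologySelfIso (ComplexShape.up ℤ) 0 F).inv hF
      · have hz : IsZero (((CochainComplex.singleFunctor (EtCoh.Ab X) 0).obj F).homology j) :=
          (HomologicalComplex.exactAt_single_obj _ _ F j hj).isZero_homology
        haveI : Mono (0 : ((CochainComplex.singleFunctor (EtCoh.Ab X) 0).obj F).homology j ⟶ F) :=
          ⟨fun a b _ => hz.eq_of_tgt a b⟩
        exact CdFieldLib.isLTorsion_of_mono (0 : ((CochainComplex.singleFunctor (EtCoh.Ab X) 0).obj F).homology j ⟶ F) hF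
    haveI : QuasiIso R.ι' := inferInstance
    haveI : IsIso (HomologicalComplex.homologyMap R.ι' j) :=
      (quasiIsoAt_iff_isIso_homologyMap _ _).1 (QuasiIso.quasiIsoAt (f := R.ι') j)
    exact CdFieldLib.isLTorsion_of_epi (HomologicalComplex.homologyMap R.ι' j) hsingle
  let T := torsComplex L C
  haveI := quasiIso_torsComplexι L C hC
  haveI hTn : T.IsStrictlyGE 0 := (CochainComplex.isStrictlyGE_iff T 0).2 fun j hj =>
    IsZero.of_mono (torsι L (C.X j)) (CochainComplex.isZero_of_isStrictlyGE C 0 j hj)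
  haveI : CochainComplex.IsStrictlyGE (((EtCoh.pull g').mapHomologicalComplex (ComplexShape.up ℤ)).obj T) 0 :=
    (CochainComplex.isStrictlyGE_iff _ 0).2 fun j hj =>
      (EtCoh.pull g').map_isZero (CochainComplex.isZero_of_isStrictlyGE T 0 j hj)
  have hac : ∀ (j : ℤ) (p : ℕ), IsZero ((EtCoh.Rpush f (p + 1)).obj (T.X j)) := fun j p =>
    isZero_Rpush_of_divisible f (isLTorsion_torsPart L (C.X j)) (p + 1) fun m hm => by
      obtain ⟨k, hw, hS⟩ := exists_seq_torsPart L (I := C.X j) hm
      exact ⟨_, k, hw, hS, BCVertLib.isZero_Rpush_kernel_nsmul f (C.X j) hm.1 p⟩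
  have hac' : ∀ j, AcycUpTo (EtCoh.push f') n
      ((((EtCoh.pull g').mapHomologicalComplex (ComplexShape.up ℤ)).obj T).X j) := fun j p hp => by
    haveI := hbc (p + 1) hp (T.X j) (isLTorsion_torsPart L (C.X j))
    haveI : (EtCoh.pull g).Additive := (EtCoh.pullPushAdj g).left_adjoint_additive
    exact ((EtCoh.pull g).map_isZero (hac j p)).of_iso (asIso (EtBC.bcQ f g f' g' h.w (p + 1) (T.X j))).symm
  let q := HomotopyCategory.quotient (EtCoh.Ab X) (ComplexShape.up ℤ)
  let K := q.obj T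
  haveI := PBCLib.isIso_unitR_of_acyclic f T 0 hac
  haveI : IsIso ((BCDLib.unitR f).app K) := ‹_›
  let e : DerivedCategory.Qh.obj K ≅ EtBC.single X F :=
    (DerivedCategory.quotientCompQhIso _).app T ≪≫ asIso (DerivedCategory.Q.map (torsComplexι L C)) ≪≫
      (((SingleFunctors.evaluation _ _ 0).mapIso (DerivedCategory.singleFunctorsPostcompQIso _)).app F ≪≫
        asIso (DerivedCategory.Q.map R.ι')).symm
  obtain ⟨α, β, hαβ⟩ := exists_bcMap_eq_θ f g f' g' h.w adj K e
  let ψ := (NatTrans.mapHomologicalComplex (BCDLib.bc0N f g f' g' h.w) (ComplexShape.up ℤ)).app T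
  haveI : ∀ j, IsIso (ψ.f j) := fun j => isIso_baseChange0_of f f' g' h.w (T.X j)
    (hbc 0 (Nat.zero_le n) (T.X j) (isLTorsion_torsPart L (C.X j)))
  haveI : IsIso ψ := HomologicalComplex.Hom.isIso_of_components ψ
  haveI : IsIso (BCDLib.bc0H f g f' g' h.w K) :=
    inferInstanceAs (IsIso ((HomotopyCategory.quotient _ (ComplexShape.up ℤ)).map ψ))
  obtain ⟨h₁, h₂⟩ := H_unitR (n := n) f' (((EtCoh.pull g').mapHomologicalComplex (ComplexShape.up ℤ)).obj T) 0 hac' i
  rw [zero_add] at h₁ h₂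
  refine ⟨fun hi => ?_, fun hi => ?_⟩
  · haveI : IsIso ((DerivedCategory.homologyFunctor (EtCoh.Ab Y') i).map
      ((BCDLib.unitR f').app ((BCDLib.pullH g').obj K))) := h₁ hi
    rw [hαβ, BCDLib.θ]
    simp only [Functor.map_comp]
    infer_instance
  · haveI : Mono ((DerivedCategory.homologyFunctor (EtCoh.Ab Y') i).map
      ((BCDLib.unitR f').app ((BCDLib.pullH g').obj K))) := h₂ hi
    rw [hαβ, BCDLib.θ]
    simp only [Functor.map_comp]
    infer_instance

/-- Without primes in `L` everything vanishes. -/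
theorem isZero_of_no_prime {Z : Scheme.{u}} (hL : ¬ ∃ ℓ ∈ L, ℓ.Prime) (F : EtCoh.Ab Z)
    (hF : EtAcyc.IsLTorsion L F) : IsZero F :=
  isZero_of_lTorsion_of_mono_nsmul hF fun m hm => by
    have : m = 1 := by
      by_contra hne
      obtain ⟨p, hp, hd⟩ := Nat.exists_prime_and_dvd hne
      exact hL ⟨p, hm.2 p hp hd, hp⟩
    subst this
    rw [one_nsmul]
    infer_instance

/-- **Base change along a universally locally `n`-acyclic morphism.** -/
theorem H_bcMap_of_isULocAcyclicN (hg : EtAcyc.IsULocAcyclicN g L n) (h : IsPullback g' f' f g) (F : EtCoh.Ab X)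
    (hF : EtAcyc.IsLTorsion L F) (i : ℤ) :
    (i ≤ n → IsIso ((DerivedCategory.homologyFunctor (EtCoh.Ab Y') i).map
      (EtBC.bcMap f g f' g' h.w adj (EtBC.single X F)))) ∧
    (i ≤ (n : ℤ) + 1 → Mono ((DerivedCategory.homologyFunctor (EtCoh.Ab Y') i).map
      (EtBC.bcMap f g f' g' h.w adj (EtBC.single X F)))) := by
  refine H_bcMap_single f g f' g' adj h (fun q hq G hG => ?_) F hF i
  by_cases hL : ∃ ℓ ∈ L, ℓ.Prime
  · exact isIso_bcQ_of_uStrictFibres f f' g' (uStrictFibres_of_isULocAcyclicN g hL hg) h q hq G hG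
  · haveI : (EtCoh.pull g).Additive := (EtCoh.pullPushAdj g).left_adjoint_additive
    haveI : (EtCoh.pull g').Additive := (EtCoh.pullPushAdj g').left_adjoint_additive
    have hz := isZero_of_no_prime hL G hG
    exact isIso_of_source_target_iso_zero _
      (((EtCoh.pull g).map_isZero ((EtCoh.Rpush f q).map_isZero hz)).isoZero)
      (((EtCoh.Rpush f' q).map_isZero ((EtCoh.pull g').map_isZero hz)).isoZero)

end Groth.Agent.UAcycBCLib
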