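import Groth.Agent.UAcycBCLib.Derived
import Groth.Agent.UAcycBCLib.StrictOpen

/-!
# Locally `n`-acyclic morphisms satisfy base change for open immersions over quasi-finite covers
-/

set_option autoImplicit false
set_option linter.style.haveILetI false
set_option linter.unusedSectionVars false
set_option backward.isDefEq.respectTransparency false
set_option backward.isDefEq.respectTransparency.types false
set_option maxHeartbeats 1000000
set_option synthInstance.maxHeartbeats 400000

universe u

open CategoryTheory CategoryTheory.Limits AlgebraicGeometry Opposite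
open Groth.Agent.AcycCritLib

attribute [local instance] HasDerivedCategory.standard

noncomputable section

namespace Groth.Agent.UAcycBCLib

attribute [local instance] Groth.Agent.S0101.result

variable {L : Set ℕ} {n : ℕ} {X Y : Scheme.{u}} {g : X ⟶ Y}

/-- Base change for quasi-compact opens of quasi-finite covers. -/
theorem H_bcMap_of_isLocAcyclicN (hg : EtAcyc.IsLocAcyclicN g L n) (Y' : Scheme.{u}) (i : Y' ⟶ Y)
    [LocallyQuasiFinite i] [LocallyOfFiniteType i] (Y'' : Scheme.{u}) (i' : Y'' ⟶ Y') [IsOpenImmersion i']
    [QuasiCompact i'] [DCoh.HasRpushEt Y'' i']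
    [DCoh.HasRpushEt (pullback (pullback.snd g i) i') (pullback.fst (pullback.snd g i) i')]
    [DCoh.HasRpushEt (pullback g i) (pullback.snd g i)]
    (adj : EtBC.pullD (pullback.snd g i) ⊣ DCoh.RpushEt (pullback g i) (pullback.snd g i))
    (F : EtCoh.Ab Y'') (hF : EtAcyc.IsLTorsion L F) (q : ℤ) :
    (q ≤ n → IsIso ((DerivedCategory.homologyFunctor (EtCoh.Ab (pullback g i)) q).map
      (EtBC.bcMap i' (pullback.snd g i) (pullback.fst (pullback.snd g i) i') (pullback.snd (pullback.snd g i) i')
        pullback.condition.symm adj (EtBC.single Y'' F)))) ∧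
    (q ≤ (n : ℤ) + 1 → Mono ((DerivedCategory.homologyFunctor (EtCoh.Ab (pullback g i)) q).map
      (EtBC.bcMap i' (pullback.snd g i) (pullback.fst (pullback.snd g i) i') (pullback.snd (pullback.snd g i) i')
        pullback.condition.symm adj (EtBC.single Y'' F)))) := by
  let sq := (IsPullback.of_hasPullback (pullback.snd g i) i').flip
  refine H_bcMap_single i' (pullback.snd g i) (pullback.fst (pullback.snd g i) i') (pullback.snd (pullback.snd g i) i')
    adj sq (fun p hp G hG => ?_) F hF q
  by_cases hL : ∃ ℓ ∈ L, ℓ.Prime
  · exact isIso_bcQ_open_qf (strictFibres_of_isLocAcyclicN g hL hg) i (IsPullback.of_hasPullback g i) i' _ _ sq p hp G hG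
  · let f' := pullback.fst (pullback.snd g i) i'
    let g' := pullback.snd (pullback.snd g i) i'
    haveI : (EtCoh.pull (pullback.snd g i)).Additive := (EtCoh.pullPushAdj _).left_adjoint_additive
    haveI : (EtCoh.pull g').Additive := (EtCoh.pullPushAdj g').left_adjoint_additive
    have hz := isZero_of_no_prime hL G hG
    exact isIso_of_source_target_iso_zero _
      (((EtCoh.pull (pullback.snd g i)).map_isZero ((EtCoh.Rpush i' p).map_isZero hz)).isoZero)
      (((EtCoh.Rpush f' p).map_isZero ((EtCoh.pull g').map_isZero hz)).isoZero)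

end Groth.Agent.UAcycBCLib
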