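import Groth.Agent.UAcycBCLib.FibreOf
import Groth.Agent.UAcycBCLib.OpenForward
import Groth.Agent.GeomFacLib.Loc
import Groth.Agent.S3471

/-!
# Base change for open immersions over quasi-finite covers gives local acyclicity
-/

set_option autoImplicit false
set_option linter.style.haveILetI false
set_option linter.unusedSectionVars false
set_option backward.isDefEq.respectTransparency false
set_option backward.isDefEq.respectTransparency.types false
set_option maxHeartbeats 1000000
set_option synthInstance.maxHeartbeats 400000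

universe u

open CategoryTheory CategoryTheory.Limits AlgebraicGeometry Opposite IsLocalRing

attribute [local instance] HasDerivedCategory.standard

noncomputable section

namespace Groth.Agent.UAcycBCLib

attribute [local instance] Groth.Agent.S0101.result

/-- Strict henselizations pass to open subschemes. -/
theorem exists_strictHenselization_openImmersion {U Y : Scheme.{u}} (j : U ⟶ Y) [IsOpenImmersion j] (s : U) (y : Y)
    (hs : j s = y) (R : Type u) [CommRing R] [IsLocalRing R] [Algebra (Y.presheaf.stalk y) R]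
    [IsLocalHom (algebraMap (Y.presheaf.stalk y) R)] [Hensel.IsStrictHenselization (Y.presheaf.stalk y) R] :
    ∃ (_ : Algebra (U.presheaf.stalk s) R) (_ : IsLocalHom (algebraMap (U.presheaf.stalk s) R)),
      Hensel.IsStrictHenselization (U.presheaf.stalk s) R ∧ Hens2.specOf U s R ≫ j = Hens2.specOf Y y R := by
  subst hs
  let e := (asIso (j.stalkMap s)).commRingCatIsoToRingEquiv
  letI : Algebra (U.presheaf.stalk s) R :=
    ((algebraMap (Y.presheaf.stalk (j s)) R).comp e.symm.toRingHom).toAlgebra
  have he : ∀ r, algebraMap (U.presheaf.stalk s) R (e r) = algebraMap (Y.presheaf.stalk (j s)) R r := fun r =>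
    congrArg (algebraMap (Y.presheaf.stalk (j s)) R) (e.symm_apply_apply r)
  haveI hl : IsLocalHom (algebraMap (U.presheaf.stalk s) R) := ⟨fun r hr => by
    obtain ⟨r, rfl⟩ := e.surjective r
    rw [he] at hr
    exact ((isUnit_map_iff (algebraMap (Y.presheaf.stalk (j s)) R) r).1 hr).map e⟩
  refine ⟨inferInstance, hl, GeomFacLib.isStrictHenselization_of_ringEquiv e he, ?_⟩
  show (Spec.map _ ≫ U.fromSpecStalk s) ≫ j = Spec.map _ ≫ Y.fromSpecStalk (j s)
  rw [Category.assoc, ← Scheme.SpecMap_stalkMap_fromSpecStalk, ← Category.assoc, ← Spec.map_comp]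
  exact congrArg (fun k => Spec.map k ≫ Y.fromSpecStalk (j s)) (CommRingCat.hom_ext (RingHom.ext he))

variable {L : Set ℕ} {n : ℕ} {X Y : Scheme.{u}} {g : X ⟶ Y}

/-- The geometric fibres of the strict localizations of a morphism satisfying base change are acyclic. -/
theorem strictFibres_of_openBC (hg : OpenBC g L n) (hL : ∃ ℓ ∈ L, ℓ.Prime) : AcycCritLib.StrictFibres g L n := by
  intro x RY RX _ _ _ _ _ _ _ _ _ _ _ _ hψ
  obtain ⟨U, hU, hxU, -⟩ := exists_isAffineOpen_mem_and_subset (x := g x) (U := ⊤) trivial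
  let u := hU.fromSpec
  obtain ⟨v, hv⟩ : g x ∈ Set.range u := hU.range_fromSpec.symm ▸ hxU
  obtain ⟨w, hw1, -⟩ := Scheme.Pullback.exists_preimage_pullback x v hv.symm
  let gU := pullback.snd g u
  obtain ⟨_, _, _, hX⟩ := exists_strictHenselization_openImmersion (pullback.fst g u) w x hw1 RX
  obtain ⟨_, _, _, hY⟩ := exists_strictHenselization_openImmersion u (gU w) (g x)
    (by rw [← Scheme.Hom.comp_apply, ← pullback.condition, Scheme.Hom.comp_apply, hw1]) RY
  refine geomFibresAcyclicN_of_stageBC gU (fun σ _ _ _ _ G hG hR => exists_stage hg u σ G hG hR) w RY RX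
    (algebraMap RY RX) ?_ hL
  refine (cancel_mono u).1 (((Category.assoc _ _ _).trans ((congrArg (_ ≫ ·) pullback.condition.symm).trans
    ((Category.assoc _ _ _).symm.trans ((congrArg (· ≫ g) hX).trans ?_)))).trans
    ((Category.assoc _ _ _).trans (congrArg (_ ≫ ·) hY)).symm)
  show (Spec.map _ ≫ X.fromSpecStalk x) ≫ g = Spec.map _ ≫ Spec.map _ ≫ Y.fromSpecStalk (g x)
  rw [Category.assoc, ← Scheme.SpecMap_stalkMap_fromSpecStalk, ← Category.assoc, ← Category.assoc, ← Spec.map_comp,
    ← Spec.map_comp]
  exact congrArg (fun m => Spec.map m ≫ Y.fromSpecStalk (g x)) (CommRingCat.hom_ext hψ.symm)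

/-- Without primes in `L` the condition is empty. -/
theorem isLocAcyclicN_of_no_prime (hL : ¬ ∃ ℓ ∈ L, ℓ.Prime) : EtAcyc.IsLocAcyclicN g L n := by
  intro x RY RX _ _ _ _ _ _ _ _ _ _ _ _ _ V F hF _
  have hz := isZero_of_no_prime hL F hF
  haveI : ∀ q, Subsingleton (EtCoh.H _ F q) := fun q =>
    AddCommGrpCat.subsingleton_of_isZero ((EtCoh.HF _ q).map_isZero hz)
  let π := EtAcyc.prj (Spec.map (CommRingCat.ofHom (algebraMap RY RX))) V
  haveI : (EtCoh.pull π).Additive := (EtCoh.pullPushAdj π).left_adjoint_additive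
  haveI : ∀ q, Subsingleton (EtCoh.H _ ((EtCoh.pull π).obj F) q) := fun q =>
    AddCommGrpCat.subsingleton_of_isZero ((EtCoh.HF _ q).map_isZero ((EtCoh.pull π).map_isZero hz))
  exact ⟨fun q _ => ⟨fun _ _ _ => Subsingleton.elim _ _, fun y => ⟨0, Subsingleton.elim _ _⟩⟩,
    fun _ _ _ => Subsingleton.elim _ _⟩

/-- Base change for quasi-compact opens of quasi-finite covers gives local acyclicity. -/
theorem isLocAcyclicN_of_openBC (hg : OpenBC g L n) : EtAcyc.IsLocAcyclicN g L n := by
  by_cases hL : ∃ ℓ ∈ L, ℓ.Prime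
  · exact (Groth.Agent.S3471.result g L hL n).2 (strictFibres_of_openBC hg hL)
  · exact isLocAcyclicN_of_no_prime hL

end Groth.Agent.UAcycBCLib
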