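import Groth.Agent.SpSeqLib.Acyclic
import Groth.Agent.RDerLib.Horseshoe
import Mathlib.Algebra.Homology.HomotopyCategory.HomologicalFunctor
import Mathlib.Algebra.Homology.HomotopyCategory.ShiftSequence

/-!
# Left exact functors on objects without derived functors in a range of degrees
-/

set_option autoImplicit false
set_option linter.style.haveILetI false
set_option linter.unusedSectionVars false
set_option backward.isDefEq.respectTransparency false
set_option backward.isDefEq.respectTransparency.types false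
set_option maxHeartbeats 1000000

universe v v' v'' u u' u''

open CategoryTheory CategoryTheory.Limits

noncomputable section

namespace Groth.Agent.UAcycBCLib

variable {A : Type u} [Category.{v} A] [Abelian A] [EnoughInjectives A]
  {B : Type u'} [Category.{v'} B] [Abelian B]

/-- No derived functors in degrees `1, …, n`. -/
def AcycUpTo (S : A ⥤ B) [S.Additive] (n : ℕ) (X : A) : Prop :=
  ∀ p : ℕ, p + 1 ≤ n → IsZero ((S.rightDerived (p + 1)).obj X)

variable (S : A ⥤ B) [S.Additive] {n : ℕ}

theorem acycUpTo_of_injective (X : A) [Injective X] : AcycUpTo S n X :=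
  fun p _ => Functor.isZero_rightDerived_obj_injective_succ _ p X

theorem acycUpTo_of_isZero {X : A} (h : IsZero X) : AcycUpTo S n X := fun _ _ => Functor.map_isZero _ h

theorem acycUpTo_quotient {T : ShortComplex A} (hT : T.ShortExact) (k : ℕ)
    (h₂ : AcycUpTo S k T.X₂) (h₁ : AcycUpTo S (k + 1) T.X₁) : AcycUpTo S k T.X₃ := fun p hp => by
  obtain ⟨Δ⟩ := RDerLib.nonempty_derivedLES S
  exact (Δ.exact₃ T hT (p + 1) (p + 1 + 1) rfl).isZero_of_both_zeros ((h₂ p hp).eq_of_src _ _)
    ((h₁ (p + 1) (by omega)).eq_of_tgt _ _)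

theorem acycUpTo_of_biprod {X X₁ X₂ : A} (i₁ : X₁ ⟶ X) (i₂ : X₂ ⟶ X) (p₁ : X ⟶ X₁) (p₂ : X ⟶ X₂)
    (h : p₁ ≫ i₁ + p₂ ≫ i₂ = 𝟙 X) (h₁ : AcycUpTo S n X₁) (h₂ : AcycUpTo S n X₂) : AcycUpTo S n X := fun p hp => by
  rw [IsZero.iff_id_eq_zero, ← (S.rightDerived (p + 1)).map_id, ← h, Functor.map_add, Functor.map_comp,
    Functor.map_comp, (h₁ p hp).eq_of_tgt ((S.rightDerived (p + 1)).map p₁) 0,
    (h₂ p hp).eq_of_tgt ((S.rightDerived (p + 1)).map p₂) 0, zero_comp, zero_comp, add_zero]

section Complex

variable [PreservesFiniteLimits S] (K : CochainComplex A ℤ) (hK : K.Acyclic)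

include hK in
theorem acycUpTo_kernel (hac : ∀ m, AcycUpTo S n (K.X m)) (m₀ : ℤ) [K.IsStrictlyGE m₀] :
    ∀ k : ℕ, k ≤ n + 1 → AcycUpTo S (n + 1 - k) (kernel (K.d (m₀ + k) (m₀ + k + 1))) := by
  intro k
  induction k with
  | zero =>
    intro _
    refine acycUpTo_of_isZero S ?_
    have hz : IsZero (K.X (m₀ - 1)) := CochainComplex.isZero_of_isStrictlyGE K m₀ _ (by lia)
    have hex := (K.exactAt_iff' (m₀ - 1) m₀ (m₀ + 1) (by simp) (by simp)).1 (hK m₀)
    haveI : Mono (K.d m₀ (m₀ + 1)) := hex.mono_g (hz.eq_of_src _ _)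
    have key : ∀ l, l = m₀ → IsZero (kernel (K.d l (l + 1))) := by
      rintro l rfl
      exact isZero_kernel_of_mono _
    exact key _ (by simp)
  | succ k ih =>
    intro hk
    have h := SpSeqLib.shortExact_kernel K hK (m₀ + k)
    have h3 := acycUpTo_quotient S h (n + 1 - (k + 1)) (fun p hp => hac _ p (by omega))
      (fun p hp => ih (by omega) p (by omega))
    rw [show (m₀ + ((k + 1 : ℕ) : ℤ) : ℤ) = m₀ + k + 1 by lia]
    exact h3

include hK in
/-- The image of an exact complex is exact in the range. -/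
theorem exactAt_map (hac : ∀ m, AcycUpTo S n (K.X m)) (m₀ : ℤ) [K.IsStrictlyGE m₀] (m : ℤ)
    (hm : m ≤ m₀ + n + 1) : ((S.mapHomologicalComplex (ComplexShape.up ℤ)).obj K).ExactAt m := by
  obtain h | h := lt_or_ge m m₀
  · exact ShortComplex.exact_of_isZero_X₂ _ (S.map_isZero (CochainComplex.isZero_of_isStrictlyGE K m₀ m h))
  obtain ⟨m, rfl⟩ : ∃ l, m = l + 1 := ⟨m - 1, by lia⟩
  have h0 : IsZero ((S.rightDerived 1).obj (kernel (K.d m (m + 1)))) := by
    obtain h' | h' := lt_or_ge m m₀
    · exact Functor.map_isZero _ (IsZero.of_mono (kernel.ι _) (CochainComplex.isZero_of_isStrictlyGE K m₀ m h'))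
    · obtain ⟨k, rfl⟩ := Int.le.dest h'
      exact acycUpTo_kernel S K hK hac m₀ k (by omega) 0 (by omega)
  rw [HomologicalComplex.exactAt_iff' _ m (m + 1) (m + 1 + 1) (by simp) (by simp),
    ShortComplex.exact_iff_epi_kernel_lift]
  haveI := SpSeqLib.epi_map_of_isZero_rightDerived_one S (SpSeqLib.shortExact_kernel K hK m) h0
  have e := map_lift_kernelComparison (K.d (m + 1) (m + 1 + 1)) S (K.d_comp_d m (m + 1) (m + 1 + 1))
  change Epi (kernel.lift (S.map (K.d (m + 1) (m + 1 + 1))) (S.map (K.d m (m + 1))) _)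
  rw [← e]
  exact epi_comp _ _

end Complex

omit [EnoughInjectives A] in
/-- Homology maps from exactness of the mapping cone. -/
theorem isIso_mono_homologyMap {K L : CochainComplex B ℤ} (ψ : K ⟶ L) (i : ℤ)
    (h₁ : (CochainComplex.mappingCone ψ).ExactAt (i - 1)) :
    Mono (HomologicalComplex.homologyMap ψ i) ∧
      ((CochainComplex.mappingCone ψ).ExactAt i → IsIso (HomologicalComplex.homologyMap ψ i)) := by
  let q := HomotopyCategory.quotient B (ComplexShape.up ℤ)
  let F := HomotopyCategory.homologyFunctor B (ComplexShape.up ℤ) 0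
  let T := CochainComplex.mappingCone.triangleh ψ
  have hT : T ∈ Pretriangulated.distinguishedTriangles := HomotopyCategory.mappingCone_triangleh_distinguished ψ
  have hz : ∀ j, (CochainComplex.mappingCone ψ).ExactAt j → IsZero ((F.shift j).obj T.obj₃) := fun j hj =>
    (hj.isZero_homology).of_iso ((HomotopyCategory.homologyFunctorFactors B (ComplexShape.up ℤ) j).app _)
  have e : IsIso (HomologicalComplex.homologyMap ψ i) ↔ IsIso ((F.shift i).map T.mor₁) :=
    (NatIso.isIso_map_iff (HomotopyCategory.homologyFunctorFactors B (ComplexShape.up ℤ) i) ψ).symm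
  have e' : Mono ((F.shift i).map T.mor₁) → Mono (HomologicalComplex.homologyMap ψ i) := fun hm => by
    have hnat := (HomotopyCategory.homologyFunctorFactors B (ComplexShape.up ℤ) i).hom.naturality ψ
    haveI : Mono ((q ⋙ HomotopyCategory.homologyFunctor B (ComplexShape.up ℤ) i).map ψ) := hm
    have h : (HomologicalComplex.homologyFunctor B (ComplexShape.up ℤ) i).map ψ =
        (HomotopyCategory.homologyFunctorFactors B (ComplexShape.up ℤ) i).inv.app K ≫
          (q ⋙ HomotopyCategory.homologyFunctor B (ComplexShape.up ℤ) i).map ψ ≫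
            (HomotopyCategory.homologyFunctorFactors B (ComplexShape.up ℤ) i).hom.app L := by
      rw [hnat, Iso.inv_hom_id_app_assoc]
    change Mono ((HomologicalComplex.homologyFunctor B (ComplexShape.up ℤ) i).map ψ)
    rw [h]
    infer_instance
  have hm : Mono ((F.shift i).map T.mor₁) :=
    (F.homologySequence_exact₁ T hT (i - 1) i (by lia)).mono_g ((hz _ h₁).eq_of_src _ _)
  refine ⟨e' hm, fun h₂ => e.2 ?_⟩
  haveI := hm
  haveI : Epi ((F.shift i).map T.mor₁) := (F.homologySequence_exact₂ T hT i).epi_f ((hz _ h₂).eq_of_tgt _ _)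
  exact isIso_of_mono_of_epi _

variable [PreservesFiniteLimits S]

/-- A quasi-isomorphism between complexes in degrees `≥ n₀` of objects acyclic up to `n` stays a
quasi-isomorphism up to degree `n₀ + n`, and a monomorphism on homology one degree higher. -/
theorem homologyMap_map {K L : CochainComplex A ℤ} (φ : K ⟶ L) [QuasiIso φ] (n₀ : ℤ)
    [K.IsStrictlyGE n₀] [L.IsStrictlyGE n₀] (hKac : ∀ m, AcycUpTo S n (K.X m)) (hLac : ∀ m, AcycUpTo S n (L.X m))
    (i : ℤ) :
    (i ≤ n₀ + n → IsIso (HomologicalComplex.homologyMap ((S.mapHomologicalComplex (ComplexShape.up ℤ)).map φ) i)) ∧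
    (i ≤ n₀ + n + 1 → Mono (HomologicalComplex.homologyMap ((S.mapHomologicalComplex (ComplexShape.up ℤ)).map φ) i)) := by
  haveI := CochainComplex.isStrictlyGE_mappingCone φ n₀ n₀ (n₀ - 1)
  have hcone : ∀ j, j ≤ n₀ + n →
      (CochainComplex.mappingCone ((S.mapHomologicalComplex (ComplexShape.up ℤ)).map φ)).ExactAt j := fun j hj =>
    HomologicalComplex.ExactAt.of_iso
      (exactAt_map S _ ((SpSeqLib.quasiIso_iff_acyclic_mappingCone φ).1 ‹_›) (fun m =>
        acycUpTo_of_biprod S ((CochainComplex.mappingCone.inl φ).v (m + 1) m (by lia))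
          ((CochainComplex.mappingCone.inr φ).f m) ((CochainComplex.mappingCone.fst φ).1.v m (m + 1) rfl)
          ((CochainComplex.mappingCone.snd φ).v m m (add_zero m))
          (CochainComplex.mappingCone.id_X φ m (m + 1) rfl) (hKac (m + 1)) (hLac m)) (n₀ - 1) j (by lia))
      (CochainComplex.mappingCone.mapHomologicalComplexIso φ S)
  exact ⟨fun h => (isIso_mono_homologyMap _ i (hcone _ (by lia))).2 (hcone i h),
    fun h => (isIso_mono_homologyMap _ i (hcone _ (by lia))).1⟩

section Composite

variable {C : Type u''} [Category.{v''} C] [Abelian C] [EnoughInjectives B]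
  (b : B ⥤ C) [b.Additive] [PreservesFiniteLimits b] [S.PreservesInjectiveObjects]

/-- If `R^j S N = 0` for `1 ≤ j ≤ q` then `R^{q+1}(b ∘ S) N = 0` forces `R^{q+1} b (S N) = 0`. -/
theorem isZero_rightDerived_of_comp (q : ℕ) : ∀ N : A, AcycUpTo S q N →
    IsZero (((S ⋙ b).rightDerived (q + 1)).obj N) → IsZero ((b.rightDerived (q + 1)).obj (S.obj N)) := by
  induction q with
  | zero =>
    intro N _ hN
    let T : ShortComplex A := ShortComplex.mk (Injective.ι N) (cokernel.π _) (cokernel.condition _)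
    have hT : T.ShortExact := { exact := ShortComplex.exact_cokernel _ }
    haveI : Mono (S.map T.f) := inferInstance
    let T' : ShortComplex B := ShortComplex.mk (S.map T.f) (cokernel.π _) (cokernel.condition _)
    have hT' : T'.ShortExact := { exact := ShortComplex.exact_cokernel _ }
    have hex : (T.map S).Exact := hT.exact.map_of_mono_of_preservesKernel S hT.mono_f inferInstance
    let k : T'.X₃ ⟶ S.obj T.X₃ := cokernel.desc _ (S.map T.g) (by rw [← S.map_comp, T.zero, S.map_zero])
    haveI : Mono k := hex.mono_cokernelDesc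
    haveI : Epi (b.map T'.g ≫ b.map k) := by
      rw [← b.map_comp]
      show Epi (b.map (cokernel.π (S.map T.f) ≫ k))
      rw [cokernel.π_desc]
      exact SpSeqLib.epi_map_of_isZero_rightDerived_one (S ⋙ b) hT hN
    haveI : Epi (b.map k) := epi_of_epi (b.map T'.g) (b.map k)
    haveI : IsIso (b.map k) := isIso_of_mono_of_epi _
    haveI : Epi (b.map T'.g) := by
      rw [show b.map T'.g = (b.map T'.g ≫ b.map k) ≫ inv (b.map k) by simp]
      infer_instance
    obtain ⟨Δ⟩ := RDerLib.nonempty_derivedLES b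
    haveI : Injective T'.X₂ := inferInstanceAs (Injective (S.obj (Injective.under N)))
    have h0 : IsZero ((b.rightDerived 1).obj T'.X₂) := Functor.isZero_rightDerived_obj_injective_succ _ 0 _
    haveI hδ : Epi (Δ.δ T' hT' 0 1 rfl) := (Δ.exact₁ T' hT' 0 1 rfl).epi_f (h0.eq_of_tgt _ _)
    haveI : Epi ((b.rightDerived 0).map T'.g) := by
      haveI : Epi (b.map T'.g ≫ b.toRightDerivedZero.app T'.X₃) := inferInstance
      rw [b.toRightDerivedZero.naturality] at this
      exact epi_of_epi (b.toRightDerivedZero.app T'.X₂) _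
    refine IsZero.of_epi_eq_zero (Δ.δ T' hT' 0 1 rfl) ?_
    rw [← cancel_epi ((b.rightDerived 0).map T'.g), Δ.comp_δ, comp_zero]
  | succ q ih =>
    intro N hN hN'
    let T : ShortComplex A := ShortComplex.mk (Injective.ι N) (cokernel.π _) (cokernel.condition _)
    have hT : T.ShortExact := { exact := ShortComplex.exact_cokernel _ }
    haveI : Injective T.X₂ := inferInstanceAs (Injective (Injective.under N))
    haveI : Epi (S.map T.g) := SpSeqLib.epi_map_of_isZero_rightDerived_one S hT (hN 0 (by omega))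
    haveI : Mono (S.map T.f) := inferInstance
    have hTS : (T.map S).ShortExact :=
      { exact := hT.exact.map_of_mono_of_preservesKernel S hT.mono_f inferInstance
        mono_f := ‹Mono (S.map T.f)›
        epi_g := ‹Epi (S.map T.g)› }
    obtain ⟨Δ⟩ := RDerLib.nonempty_derivedLES (S ⋙ b)
    have hQ' : IsZero (((S ⋙ b).rightDerived (q + 1)).obj T.X₃) :=
      (Δ.exact₃ T hT (q + 1) (q + 1 + 1) rfl).isZero_of_both_zeros
        ((Functor.isZero_rightDerived_obj_injective_succ _ q T.X₂).eq_of_src _ _) (hN'.eq_of_tgt _ _)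
    have hQ := ih T.X₃ (acycUpTo_quotient S hT q (acycUpTo_of_injective S _) hN) hQ'
    obtain ⟨Δ'⟩ := RDerLib.nonempty_derivedLES b
    haveI : Injective (T.map S).X₂ := inferInstanceAs (Injective (S.obj T.X₂))
    exact (Δ'.exact₁ (T.map S) hTS (q + 1) (q + 1 + 1) rfl).isZero_of_both_zeros (hQ.eq_of_src _ _)
      ((Functor.isZero_rightDerived_obj_injective_succ _ (q + 1) _).eq_of_tgt _ _)

end Composite

end Groth.Agent.UAcycBCLib
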