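import Groth.Agent.UAcycBCLib.Fibre
import Groth.Agent.UAcycBCLib.Trunc
import Groth.Agent.SmoothBCLib.Step
import Groth.Agent.RpushTorsLib.Basic
import Groth.Agent.BCVertLib.Horiz

/-!
# Base change along universally locally acyclic morphisms, one degree at a time
-/

set_option autoImplicit false
set_option linter.style.haveILetI false
set_option linter.unusedSectionVars false
set_option backward.isDefEq.respectTransparency false
set_option backward.isDefEq.respectTransparency.types false
set_option maxHeartbeats 1000000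
set_option synthInstance.maxHeartbeats 400000

universe u

open CategoryTheory CategoryTheory.Limits AlgebraicGeometry Opposite IsLocalRing
open Groth.Agent.EtPtsLib Groth.Agent.SmoothBCLib Groth.Agent.AcycCritLib

noncomputable section

namespace Groth.Agent.UAcycBCLib

attribute [local instance] Groth.Agent.S0101.result

variable {L : Set ℕ} {n : ℕ} {Y' Y : Scheme.{u}} {g : Y' ⟶ Y}

/-- Fibres on strict localizations over schemes with algebraically closed local rings. -/
theorem local_fibres (hg : UStrictFibres g L n) {T : Scheme.{u}} (p : T ⟶ Y) [QuasiCompact p] [QuasiSeparated p]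
    (hT : AlgFields T) (x : Y') (RS : Type u) [CommRing RS] [IsLocalRing RS]
    [Algebra (Y.presheaf.stalk (g x)) RS] [IsLocalHom (algebraMap (Y.presheaf.stalk (g x)) RS)]
    [Hensel.IsStrictHenselization (Y.presheaf.stalk (g x)) RS]
    (RX : Type u) [CommRing RX] [IsLocalRing RX] [Algebra (Y'.presheaf.stalk x) RX]
    [IsLocalHom (algebraMap (Y'.presheaf.stalk x) RX)] [Hensel.IsStrictHenselization (Y'.presheaf.stalk x) RX]
    (ψ : RS →+* RX) [IsLocalHom ψ]
    (hψ : ψ.comp (algebraMap (Y.presheaf.stalk (g x)) RS) =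
      (algebraMap (Y'.presheaf.stalk x) RX).comp (g.stalkMap x).hom)
    {C : Scheme.{u}} (π : C ⟶ pullback p (Hens2.specOf Y (g x) RS)) (c : C ⟶ Spec (CommRingCat.of RX))
    (sq : IsPullback π c (pullback.snd p (Hens2.specOf Y (g x) RS)) (Spec.map (CommRingCat.ofHom ψ))) :
    AlgFields (pullback p (Hens2.specOf Y (g x) RS)) ∧ QuasiCompact π ∧ QuasiSeparated π ∧
      ∀ v, EtAcyc.IsAcyclicSchemeN L n (pullback π ((pullback p (Hens2.specOf Y (g x) RS)).fromSpecResidueField v)) := by
  haveI := ProEtSLib.weaklyEtale_specOf Y (g x) RS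
  haveI : WeaklyEtale (pullback.fst p (Hens2.specOf Y (g x) RS)) := MorphismProperty.pullback_fst _ _ ‹_›
  have hV := algFields_of_weaklyEtale hT (pullback.fst p (Hens2.specOf Y (g x) RS))
  refine ⟨hV, MorphismProperty.of_isPullback sq.flip inferInstance, MorphismProperty.of_isPullback sq.flip inferInstance,
    fun v => ?_⟩
  haveI := Hensel.IsStrictHenselization.henselian (R := Y'.presheaf.stalk x) (S := RX)
  haveI : IsSepClosed (ResidueField RX) :=
    (Hensel.IsStrictHenselization.isSepClosure (R := Y'.presheaf.stalk x) (S := RX)).sep_closed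
  letI : Algebra RS RX := ψ.toAlgebra
  haveI : IsLocalHom (algebraMap RS RX) := ‹IsLocalHom ψ›
  haveI := hV.isAlgClosed_residueField v
  haveI : IsAlgClosed (ResidueField ((pullback p (Hens2.specOf Y (g x) RS)).presheaf.stalk v)) :=
    hV.isAlgClosed_residueField v
  have hgf : EtAcyc.GeomFibresAcyclicN L n (Spec.map (CommRingCat.ofHom ψ)) := hg.self x RS RX hψ
  exact isAcyclicSchemeN_of_iso ((IsPullback.of_hasPullback π _).flip.paste_vert sq).flip.isoPullback
    (isAcyclicSchemeN_point ψ (hg.strictLoc x RS RX ψ hψ) hgf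
      ((pullback p (Hens2.specOf Y (g x) RS)).fromSpecResidueField v ≫ pullback.snd p (Hens2.specOf Y (g x) RS)))

/-- Base change of direct images from schemes with algebraically closed local rings, in degree zero. -/
theorem isIso_baseChange0_algFields (hg : UStrictFibres g L n) {T Tb : Scheme.{u}} (p : T ⟶ Y) [QuasiCompact p]
    [QuasiSeparated p] (hT : AlgFields T) (hb : Tb ⟶ T) (pY : Tb ⟶ Y') (sq : IsPullback hb pY p g)
    (N : EtCoh.Ab T) (hN : EtAcyc.IsLTorsion L N) : IsIso (EtCoh.baseChange0 p g pY hb sq.w N) := by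
  refine StrictLocLib.isIso_baseChange0_of_localUnit p g pY hb sq N
    fun x RS _ _ _ _ _ RX _ _ _ _ _ ψ _ hψ π sqπ => ?_
  obtain ⟨hV, hc, hs, hfib⟩ := local_fibres hg p hT x RS RX ψ hψ π (pullback.snd pY _) sqπ
  haveI := hc
  haveI := hs
  exact (unit_vanish_of_fibres hV π hfib _ (AcycCompLib.isLTorsion_pull _ hN)).1

/-- Direct images from schemes with algebraically closed local rings stay acyclic up to `n`. -/
theorem isZero_Rpush_algFields (hg : UStrictFibres g L n) {T Tb : Scheme.{u}} (p : T ⟶ Y) [QuasiCompact p]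
    [QuasiSeparated p] (hT : AlgFields T) (hb : Tb ⟶ T) (pY : Tb ⟶ Y') (sq : IsPullback hb pY p g)
    (N : EtCoh.Ab T) (hN : EtAcyc.IsLTorsion L N) (i : ℕ) (hi : i + 1 ≤ n) :
    IsZero ((EtCoh.Rpush pY (i + 1)).obj ((EtCoh.pull hb).obj N)) := by
  haveI : QuasiCompact pY := MorphismProperty.of_isPullback sq inferInstance
  haveI : QuasiSeparated pY := MorphismProperty.of_isPullback sq inferInstance
  refine isZero_Rpush_of_strictLoc pY _ _ fun x RX _ _ _ _ _ _ => ?_
  obtain ⟨RS, _, _, _, _, hRS⟩ := Henselization.exists_strictHenselization (Y.presheaf.stalk (g x))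
  haveI := hRS
  obtain ⟨ψ, hl, hψ, hspec⟩ := exists_strictLoc_hom g x RS RX
  haveI := hl
  let εX := Hens2.specOf Y' x RX
  let εY := Hens2.specOf Y (g x) RS
  let π : pullback pY εX ⟶ pullback p εY :=
    pullback.lift (pullback.fst pY εX ≫ hb) (pullback.snd pY εX ≫ Spec.map (CommRingCat.ofHom ψ)) (by
      rw [Category.assoc, sq.w, ← Category.assoc, pullback.condition, Category.assoc, hspec, Category.assoc])
  have sqπ : IsPullback π (pullback.snd pY εX) (pullback.snd p εY) (Spec.map (CommRingCat.ofHom ψ)) := by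
    refine IsPullback.of_right ?_ (pullback.lift_snd _ _ _) (IsPullback.of_hasPullback p εY)
    rw [pullback.lift_fst]
    exact hspec ▸ (IsPullback.of_hasPullback pY εX).paste_horiz sq
  obtain ⟨hV, hc, hs, hfib⟩ := local_fibres hg p hT x RS RX ψ hψ π (pullback.snd pY εX) sqπ
  haveI := hc
  haveI := hs
  haveI : CompactSpace ↥(pullback p εY) := QuasiCompact.compactSpace_of_compactSpace (pullback.snd p εY)
  haveI : QuasiSeparatedSpace ↥(pullback p εY) := quasiSeparatedSpace_of_quasiSeparated (pullback.snd p εY)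
  refine (subsingleton_H_pull_pull hb (pullback.fst pY εX) _ rfl N _).1
    ((subsingleton_H_pull_pull (pullback.fst p εY) π _ (pullback.lift_fst _ _ _) N _).2 ?_)
  exact subsingleton_H_of_fibres hV π hfib _ (AcycCompLib.isLTorsion_pull _ hN) (i + 1) (by omega) hi

section Paste

variable {T X S S' X' T' : Scheme.{u}} (p : T ⟶ X) (f : X ⟶ S) (g : S' ⟶ S) (g' : X' ⟶ X) (f' : X' ⟶ S')
  (p' : T' ⟶ X') (b : T' ⟶ T) (w : b ≫ p = p' ≫ g') (w₂ : g' ≫ f = f' ≫ g) (w' : b ≫ p ≫ f = (p' ≫ f') ≫ g)

/-- Base change morphisms of sheaves compose along composites of direct images. -/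
theorem baseChange0_hcomp (N : EtCoh.Ab T) :
    (EtCoh.pull g).map ((EtCoh.pushComp f p).hom.app N) ≫ EtCoh.baseChange0 (p ≫ f) g (p' ≫ f') b w' N =
      EtCoh.baseChange0 f g f' g' w₂ ((EtCoh.push p).obj N) ≫
        (EtCoh.push f').map (EtCoh.baseChange0 p g' p' b w N) ≫ (EtCoh.pushComp f' p').hom.app _ := by
  apply ((EtCoh.pullPushAdj g).homEquiv _ _).injective
  rw [Adjunction.homEquiv_naturality_left, Adjunction.homEquiv_naturality_right]
  have hbc : ∀ {A B A' B' : Scheme.{u}} (a : A ⟶ B) (c : B' ⟶ B) (a' : A' ⟶ B') (c' : A' ⟶ A)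
      (h : c' ≫ a = a' ≫ c) (F : EtCoh.Ab A),
      (EtCoh.pullPushAdj c).homEquiv _ _ (EtCoh.baseChange0 a c a' c' h F) =
        (EtCoh.push a).map ((EtCoh.pullPushAdj c').unit.app F) ≫ (BCVertLib.sqNat a c a' c' h).hom.app _ := by
    intro A B A' B' a c a' c' h F
    simp [EtCoh.baseChange0, BCVertLib.sqNat]
  erw [hbc (p ≫ f) g (p' ≫ f') b w' N, hbc f g f' g' w₂ ((EtCoh.push p).obj N)]
  simp only [Category.assoc]
  have hu : (EtCoh.pullPushAdj g').unit.app ((EtCoh.push p).obj N) ≫
      (EtCoh.push g').map (EtCoh.baseChange0 p g' p' b w N) =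
        (EtCoh.push p).map ((EtCoh.pullPushAdj b).unit.app N) ≫ (BCVertLib.sqNat p g' p' b w).hom.app _ :=
    ((EtCoh.pullPushAdj g').homEquiv_unit _ _ _).symm.trans (hbc p g' p' b w N)
  have hn := (BCVertLib.sqNat f g f' g' w₂).hom.naturality (EtCoh.baseChange0 p g' p' b w N)
  dsimp only [Functor.comp_map] at hn
  rw [Functor.map_comp, ← Category.assoc ((BCVertLib.sqNat f g f' g' w₂).hom.app _), ← hn, Category.assoc,
    ← Category.assoc ((EtCoh.push f).map _), ← Functor.map_comp, hu, Functor.map_comp, Category.assoc]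
  have hnat := (EtCoh.pushComp f p).hom.naturality ((EtCoh.pullPushAdj b).unit.app N)
  dsimp only [Functor.comp_map] at hnat
  rw [← Category.assoc ((EtCoh.pushComp f p).hom.app N)]
  refine (congrArg (· ≫ _) hnat.symm).trans ((Category.assoc _ _ _).trans ?_)
  refine congrArg (_ ≫ ·) ?_
  have h := BCVertLib.sqNat_hcomp p f g g' f' p' b w w₂ w' ((EtCoh.pull b).obj N)
  rw [← cancel_mono ((EtCoh.push g).map ((EtCoh.pushComp f' p').inv.app ((EtCoh.pull b).obj N)))]
  simp only [Category.assoc, ← Functor.map_comp, Iso.hom_inv_id_app]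
  rw [h]
  refine (Iso.hom_inv_id_app_assoc (EtCoh.pushComp f p) ((EtCoh.push b).obj ((EtCoh.pull b).obj N)) _).trans ?_
  erw [CategoryTheory.Functor.map_id, Category.comp_id]

end Paste

section Square

variable {X X' : Scheme.{u}} (f : X ⟶ Y) (f' : X' ⟶ Y') (g' : X' ⟶ X)

theorem isIso_bcQ_zero_of (h : g' ≫ f = f' ≫ g) [PreservesFiniteLimits (EtCoh.pull g')] (F : EtCoh.Ab X)
    (h0 : IsIso (EtCoh.baseChange0 f g f' g' h F)) : IsIso (EtBC.bcQ f g f' g' h 0 F) := by
  haveI := h0
  haveI : IsIso ((EtCoh.pull g).map ((EtCoh.push f).toRightDerivedZero.app F) ≫ EtBC.bcQ f g f' g' h 0 F) := by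
    rw [EtBC.bcQ_zero_compat f g f' g' h F]
    infer_instance
  exact IsIso.of_isIso_comp_left ((EtCoh.pull g).map ((EtCoh.push f).toRightDerivedZero.app F)) _

theorem isIso_baseChange0_of (h : g' ≫ f = f' ≫ g) [PreservesFiniteLimits (EtCoh.pull g')] (F : EtCoh.Ab X)
    (h0 : IsIso (EtBC.bcQ f g f' g' h 0 F)) : IsIso (EtCoh.baseChange0 f g f' g' h F) := by
  haveI := h0
  haveI : IsIso (EtCoh.baseChange0 f g f' g' h F ≫ (EtCoh.push f').toRightDerivedZero.app _) := by
    rw [← EtBC.bcQ_zero_compat f g f' g' h F]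
    infer_instance
  exact IsIso.of_isIso_comp_right _ ((EtCoh.push f').toRightDerivedZero.app _)

theorem isLTorsion_push {X S : Scheme.{u}} (f : X ⟶ S) [QuasiCompact f] [QuasiSeparated f] {F : EtCoh.Ab X}
    (hF : EtAcyc.IsLTorsion L F) : EtAcyc.IsLTorsion L ((EtCoh.push f).obj F) :=
  RpushTorsLib.isLTorsion_of_iso (asIso ((EtCoh.push f).toRightDerivedZero.app F)).symm
    (RpushTorsLib.isLTorsion_Rpush f F hF 0)

/-- An `L`-torsion sheaf embeds in one with good base change behaviour. -/
theorem exists_mono_good (hg : UStrictFibres g L n) [CompactSpace X] [QuasiCompact f] [QuasiSeparated f]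
    [QuasiSeparatedSpace X] (h : IsPullback g' f' f g) (F : EtCoh.Ab X) (hF : EtAcyc.IsLTorsion L F) :
    ∃ (M : EtCoh.Ab X) (a : F ⟶ M), Mono a ∧ EtAcyc.IsLTorsion L M ∧
      IsIso (EtCoh.baseChange0 f g f' g' h.w M) ∧ (∀ q : ℕ, IsZero ((EtCoh.Rpush f (q + 1)).obj M)) ∧
      ∀ q : ℕ, q + 1 ≤ n → IsZero ((EtCoh.Rpush f' (q + 1)).obj ((EtCoh.pull g').obj M)) := by
  obtain ⟨T, p, hT, hp, _⟩ := exists_algFields_cover X
  haveI := hp
  haveI : QuasiCompact p := quasiCompact_of_compactSpace p
  haveI : QuasiSeparated p := inferInstance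
  let N := (EtCoh.pull p).obj F
  have hN : EtAcyc.IsLTorsion L N := AcycCompLib.isLTorsion_pull p hF
  let p' := pullback.snd p g'
  let b := pullback.fst p g'
  have sq : IsPullback b p' p g' := IsPullback.of_hasPullback p g'
  have hg' : UStrictFibres g' L n := hg.baseChange h.flip
  haveI := isIso_baseChange0_algFields hg' p hT b p' sq N hN
  let e := asIso (EtCoh.baseChange0 p g' p' b sq.w N)
  refine ⟨(EtCoh.push p).obj N, (EtCoh.pullPushAdj p).unit.app F, EtPtsLib.mono_unit_of_surjective p F,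
    isLTorsion_push p hN, ?_, fun q => isZero_Rpush_push p f N (fun j => hT.isZero_Rpush p N j)
      (hT.isZero_Rpush (p ≫ f) N q), fun q hq => ?_⟩
  · haveI := isIso_baseChange0_algFields hg (p ≫ f) hT b (p' ≫ f') (sq.paste_vert h) N hN
    haveI : IsIso (EtCoh.baseChange0 f g f' g' h.w ((EtCoh.push p).obj N) ≫
        (EtCoh.push f').map (EtCoh.baseChange0 p g' p' b sq.w N) ≫ (EtCoh.pushComp f' p').hom.app _) := by
      rw [← baseChange0_hcomp p f g g' f' p' b sq.w h.w (sq.paste_vert h).w N]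
      infer_instance
    exact IsIso.of_isIso_comp_right _ ((EtCoh.push f').map (EtCoh.baseChange0 p g' p' b sq.w N) ≫
      (EtCoh.pushComp f' p').hom.app _)
  · have hac : AcycUpTo (EtCoh.push p') q ((EtCoh.pull b).obj N) := fun j hj =>
      isZero_Rpush_algFields hg' p hT b p' sq N hN j (by omega)
    have hc : IsZero ((EtCoh.Rpush (p' ≫ f') (q + 1)).obj ((EtCoh.pull b).obj N)) :=
      isZero_Rpush_algFields hg (p ≫ f) hT b (p' ≫ f') (sq.paste_vert h) N hN q hq
    exact (isZero_rightDerived_of_comp (EtCoh.push p') (EtCoh.push f') q _ hac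
      (hc.of_iso ((RDer.rightDerivedIso (EtCoh.pushComp f' p') (q + 1)).app _))).of_iso
        ((EtCoh.Rpush f' (q + 1)).mapIso e)

end Square

end Groth.Agent.UAcycBCLib
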