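import Groth.Agent.EtPtsLib.RecollEquiv
import Groth.Agent.AcycCompLib.Criterion
import Groth.Agent.S3054
import Groth.Agent.CompBCLib.Via

/-!
# Restriction of cohomology to open and closed pieces is surjective
-/

set_option autoImplicit false
set_option linter.style.haveILetI false
set_option linter.unusedSectionVars false
set_option backward.isDefEq.respectTransparency false
set_option backward.isDefEq.respectTransparency.types false
set_option maxHeartbeats 1000000

universe u

open CategoryTheory CategoryTheory.Limits AlgebraicGeometry Opposite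
open Groth.Agent.EtPtsLib

attribute [local instance] Groth.Agent.S0101.result

noncomputable section

namespace Groth.Agent.UAcycBCLib

/-- The unit at an open and closed piece is a split epimorphism. -/
theorem isSplitEpi_unit_clopen {U X : Scheme.{u}} (j : U ⟶ X) [IsOpenImmersion j] (hj : IsClosed (Set.range j))
    (F : EtCoh.Ab X) : IsSplitEpi ((EtCoh.pullPushAdj j).unit.app F) := by
  let O : X.Opens := ⟨(Set.range j)ᶜ, hj.isOpen_compl⟩
  let i := O.ι
  have hi : Set.range i = (Set.range j)ᶜ := Scheme.Opens.range_ι O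
  have hic : IsClosed (Set.range i) := by rw [hi]; exact (j.isOpenEmbedding.isOpen_range).isClosed_compl
  let A := (EtCoh.push j).obj ((EtCoh.pull j).obj F)
  let B := (EtCoh.push i).obj ((EtCoh.pull i).obj F)
  let φ : F ⟶ A ⊞ B := biprod.lift ((EtCoh.pullPushAdj j).unit.app F) ((EtCoh.pullPushAdj i).unit.app F)
  have key : ∀ (Ω : Type u) [Field Ω] [IsSepClosed Ω] (ξ : Spec (CommRingCat.of Ω) ⟶ X),
      Function.Bijective ((EtCoh.stalk ξ).map φ) := fun Ω _ _ ξ => by
    let S := EtCoh.stalk ξ
    haveI : PreservesFiniteLimits S := inferInstance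
    haveI : PreservesBinaryBiproducts S := preservesBinaryBiproducts_of_preservesBinaryProducts _
    haveI : S.Additive := Functor.additive_of_preservesBinaryBiproducts _
    suffices IsIso (S.map φ) from ConcreteCategory.bijective_of_isIso (S.map φ)
    by_cases h : ξ default ∈ Set.range j
    · obtain ⟨ζ, hζ⟩ := exists_comp_eq j ξ h
      haveI : IsIso (S.map ((EtCoh.pullPushAdj j).unit.app F)) := by
        subst hζ
        exact isIso_stalk_unit_immersion j ζ F
      have hB : IsZero (S.obj B) := isZero_stalk_push_ab i ξ hic (by rw [hi]; exact fun h' => h' h) _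
      haveI : IsIso (S.map (biprod.fst : A ⊞ B ⟶ A)) := by
        refine ⟨S.map biprod.inl, ?_, by rw [← S.map_comp, biprod.inl_fst, S.map_id]⟩
        have ht := congrArg S.map (biprod.total (X := A) (Y := B))
        rw [S.map_add, S.map_comp, S.map_comp, S.map_id,
          show S.map (biprod.snd : A ⊞ B ⟶ B) = 0 from hB.eq_of_tgt _ _, zero_comp, add_zero] at ht
        exact ht
      haveI : IsIso (S.map φ ≫ S.map (biprod.fst : A ⊞ B ⟶ A)) := by
        rw [← S.map_comp, biprod.lift_fst]
        infer_instance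
      exact IsIso.of_isIso_comp_right (S.map φ) (S.map (biprod.fst : A ⊞ B ⟶ A))
    · obtain ⟨ζ, hζ⟩ := exists_comp_eq i ξ (by rw [hi]; exact h)
      haveI : IsIso (S.map ((EtCoh.pullPushAdj i).unit.app F)) := by
        subst hζ
        exact isIso_stalk_unit_immersion i ζ F
      have hA : IsZero (S.obj A) := isZero_stalk_push_ab j ξ hj h _
      haveI : IsIso (S.map (biprod.snd : A ⊞ B ⟶ B)) := by
        refine ⟨S.map biprod.inr, ?_, by rw [← S.map_comp, biprod.inr_snd, S.map_id]⟩
        have ht := congrArg S.map (biprod.total (X := A) (Y := B))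
        rw [S.map_add, S.map_comp, S.map_comp, S.map_id,
          show S.map (biprod.fst : A ⊞ B ⟶ A) = 0 from hA.eq_of_tgt _ _, zero_comp, zero_add] at ht
        exact ht
      haveI : IsIso (S.map φ ≫ S.map (biprod.snd : A ⊞ B ⟶ B)) := by
        rw [← S.map_comp, biprod.lift_snd]
        infer_instance
      exact IsIso.of_isIso_comp_right (S.map φ) (S.map (biprod.snd : A ⊞ B ⟶ B))
  haveI : Mono φ := (mono_iff_ab _).2 fun Ω _ _ ξ => (key Ω ξ).1
  haveI : Epi φ := (epi_iff_ab _).2 fun Ω _ _ ξ => (key Ω ξ).2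
  haveI : IsIso φ := isIso_of_mono_of_epi _
  refine IsSplitEpi.mk' ⟨biprod.inl ≫ inv φ, ?_⟩
  have e : (EtCoh.pullPushAdj j).unit.app F = φ ≫ biprod.fst := (biprod.lift_fst _ _).symm
  rw [e]
  exact (Category.assoc _ _ _).trans ((congrArg (biprod.inl ≫ ·) (IsIso.inv_hom_id_assoc φ _)).trans biprod.inl_fst)

/-- **Classes on an open and closed piece extend.** -/
theorem surjective_Hpull_clopen {U X : Scheme.{u}} (j : U ⟶ X) [IsOpenImmersion j] (hj : IsClosed (Set.range j))
    (F : EtCoh.Ab X) (q : ℕ) : Function.Surjective (EtCore.Hpull j F q) := by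
  haveI : IsClosedImmersion j := IsClosedImmersion.of_isPreimmersion j hj
  haveI := isSplitEpi_unit_clopen j hj F
  have hR : ∀ r, 1 ≤ r → r ≤ q → IsZero ((EtCoh.Rpush j r).obj ((EtCoh.pull j).obj F)) :=
    fun r h1 _ => S3054.result j _ r (Nat.lt_of_lt_of_le Nat.zero_lt_one h1)
  intro y
  obtain ⟨x, hx⟩ := ((AcycCompLib.bijective_HofPush j _ q q hR).1 le_rfl).2 y
  let s := section_ ((EtCoh.pullPushAdj j).unit.app F)
  refine ⟨Sheaf.H.map s q x, ?_⟩
  rw [AcycCompLib.Hpull_eq_HofPush_unit, CompBCLib.H_map_map, IsSplitEpi.id]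
  exact (congrArg (EtLim.HofPush j _ q) (CompBCLib.H_map_id q x)).trans hx

end Groth.Agent.UAcycBCLib
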