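import Groth.Agent.UAcycBCLib.Basic

/-!
# Base change in degrees `≤ n` along universally locally `n`-acyclic morphisms
-/

set_option autoImplicit false
set_option linter.style.haveILetI false
set_option linter.unusedSectionVars false
set_option backward.isDefEq.respectTransparency false
set_option backward.isDefEq.respectTransparency.types false
set_option maxHeartbeats 1000000
set_option synthInstance.maxHeartbeats 400000

universe u

open CategoryTheory CategoryTheory.Limits AlgebraicGeometry Opposite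
open Groth.Agent.EtPtsLib Groth.Agent.SmoothBCLib Groth.Agent.AcycCritLib

noncomputable section

namespace Groth.Agent.UAcycBCLib

attribute [local instance] Groth.Agent.S0101.result

variable {L : Set ℕ} {n : ℕ}

/-- A map of left exact rows with an isomorphism in the middle and a monomorphism on the right is an isomorphism
on the left. -/
theorem isIso_of_leftExact {A : Type*} [Category* A] [Abelian A] {S₁ S₂ : ShortComplex A} (h₁ : S₁.Exact)
    [Mono S₁.f] [Mono S₂.f] (a : S₁.X₁ ⟶ S₂.X₁) (b : S₁.X₂ ⟶ S₂.X₂) (c : S₁.X₃ ⟶ S₂.X₃) [IsIso b] [Mono c]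
    (hab : a ≫ S₂.f = S₁.f ≫ b) (hbc : b ≫ S₂.g = S₁.g ≫ c) : IsIso a := by
  haveI : Mono (a ≫ S₂.f) := by rw [hab]; infer_instance
  haveI : Mono a := mono_of_mono a S₂.f
  have hy : (S₂.f ≫ inv b) ≫ S₁.g = 0 := by
    rw [← cancel_mono c, zero_comp, Category.assoc, Category.assoc, ← hbc, IsIso.inv_hom_id_assoc, S₂.zero]
  haveI : IsSplitEpi a := IsSplitEpi.mk' ⟨h₁.lift _ hy, by
    rw [← cancel_mono S₂.f, Category.assoc, hab, h₁.lift_f_assoc, Category.assoc, IsIso.inv_hom_id,
      Category.comp_id, Category.id_comp]⟩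
  exact isIso_of_mono_of_epi _

theorem mono_map_map {A B C : Type*} [Category* A] [Category* B] [Category* C] (F : A ⥤ B) (G : B ⥤ C)
    [PreservesFiniteLimits F] [PreservesFiniteLimits G] {x y : A} (a : x ⟶ y) [Mono a] : Mono (G.map (F.map a)) := by
  haveI : PreservesLimitsOfShape WalkingCospan F := inferInstance
  haveI : PreservesLimitsOfShape WalkingCospan G := inferInstance
  infer_instance

variable {Y' Y X X' : Scheme.{u}} {g : Y' ⟶ Y}

/-- Every torsion sheaf embeds in one with good base change behaviour. -/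
def GoodEmb (f : X ⟶ Y) (f' : X' ⟶ Y') (g' : X' ⟶ X) (h : g' ≫ f = f' ≫ g) (L : Set ℕ) (n : ℕ) : Prop :=
  ∀ F : EtCoh.Ab X, EtAcyc.IsLTorsion L F → ∃ (M : EtCoh.Ab X) (a : F ⟶ M), Mono a ∧ EtAcyc.IsLTorsion L M ∧
    IsIso (EtCoh.baseChange0 f g f' g' h M) ∧ (∀ q : ℕ, IsZero ((EtCoh.Rpush f (q + 1)).obj M)) ∧
      ∀ q : ℕ, q + 1 ≤ n → IsZero ((EtCoh.Rpush f' (q + 1)).obj ((EtCoh.pull g').obj M))

section Good

variable (f : X ⟶ Y) (f' : X' ⟶ Y') (g' : X' ⟶ X) (h : g' ≫ f = f' ≫ g) [QuasiCompact f] [QuasiSeparated f]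

theorem mono_baseChange0 (hgood : GoodEmb f f' g' h L n) (F : EtCoh.Ab X)
    (hF : EtAcyc.IsLTorsion L F) : Mono (EtCoh.baseChange0 f g f' g' h F) := by
  obtain ⟨M, a, ha, -, hb, -, -⟩ := hgood F hF
  haveI := hb
  haveI := ha
  haveI : Mono ((EtCoh.pull g).map ((EtCoh.push f).map a)) := mono_map_map _ _ a
  haveI : Mono (EtCoh.baseChange0 f g f' g' h F ≫ (EtCoh.push f').map ((EtCoh.pull g').map a)) := by
    rw [← BCDLib.baseChange0_natural f g f' g' h a]
    infer_instance
  exact mono_of_mono _ ((EtCoh.push f').map ((EtCoh.pull g').map a))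

theorem isIso_baseChange0 (hgood : GoodEmb f f' g' h L n) (F : EtCoh.Ab X)
    (hF : EtAcyc.IsLTorsion L F) : IsIso (EtCoh.baseChange0 f g f' g' h F) := by
  obtain ⟨M, a, ha, hM, hb, -, -⟩ := hgood F hF
  haveI := hb
  haveI := ha
  let S := ShortComplex.mk a (cokernel.π a) (cokernel.condition a)
  haveI := mono_baseChange0 f f' g' h hgood S.X₃ (CdFieldLib.isLTorsion_of_epi (cokernel.π a) hM)
  have hS : S.Exact := ShortComplex.exact_cokernel a
  haveI : Mono ((S.map (EtCoh.push f)).map (EtCoh.pull g)).f :=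
    mono_map_map (EtCoh.push f) (EtCoh.pull g) a
  haveI : Mono ((S.map (EtCoh.pull g')).map (EtCoh.push f')).f :=
    mono_map_map (EtCoh.pull g') (EtCoh.push f') a
  have h1 : ((S.map (EtCoh.push f)).map (EtCoh.pull g)).Exact :=
    (hS.map_of_mono_of_preservesKernel (EtCoh.push f) inferInstance inferInstance).map (EtCoh.pull g)
  exact isIso_of_leftExact (S₂ := (S.map (EtCoh.pull g')).map (EtCoh.push f')) h1 _
    (EtCoh.baseChange0 f g f' g' h M) (EtCoh.baseChange0 f g f' g' h S.X₃)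
    (BCDLib.baseChange0_natural f g f' g' h a).symm (BCDLib.baseChange0_natural f g f' g' h (cokernel.π a)).symm

theorem isIso_bcQ_of_goodEmb (hgood : GoodEmb f f' g' h L n) :
    ∀ q : ℕ, q ≤ n → ∀ F : EtCoh.Ab X, EtAcyc.IsLTorsion L F → IsIso (EtBC.bcQ f g f' g' h q F) := by
  intro q
  induction q with
  | zero => exact fun _ F hF => isIso_bcQ_zero_of f f' g' h F (isIso_baseChange0 f f' g' h hgood F hF)
  | succ q ih =>
    intro hq F hF
    obtain ⟨M, a, ha, hM, -, hz, hz'⟩ := hgood F hF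
    haveI := ha
    obtain ⟨hw, hm, hex⟩ := BCVertLib.mono_exact_of_acyclic f g f' g' h
      (S₀ := ShortComplex.mk a (cokernel.π a) (cokernel.condition a))
      { exact := ShortComplex.exact_cokernel a } q (hz q) (ih (by omega) M hM)
      (ih (by omega) _ (CdFieldLib.isLTorsion_of_epi (cokernel.π a) hM))
    haveI := hm
    haveI : Epi (EtBC.bcQ f g f' g' h (q + 1) F) := hex.epi_f ((hz' q hq).eq_of_tgt _ _)
    exact isIso_of_mono_of_epi _

end Good

/-- **Base change** in degrees `≤ n`. -/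
theorem isIso_bcQ_of_uStrictFibres (f : X ⟶ Y) (f' : X' ⟶ Y') (g' : X' ⟶ X) [QuasiCompact f] [QuasiSeparated f]
    (hg : UStrictFibres g L n) (h : IsPullback g' f' f g) (q : ℕ) (hq : q ≤ n) (F : EtCoh.Ab X)
    (hF : EtAcyc.IsLTorsion L F) : IsIso (EtBC.bcQ f g f' g' h.w q F) := by
  let 𝒲 := Y.affineCover
  let V : 𝒲.I₀ → Y.Etale := fun i => MorphismProperty.Over.mk ⊤ (𝒲.f i) inferInstance
  let U : 𝒲.I₀ → Y'.Etale := fun i => MorphismProperty.Over.mk ⊤ (pullback.fst g (𝒲.f i)) inferInstance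
  have hU : EtCoh.Covers U := fun x => by
    obtain ⟨i, y, hy⟩ := 𝒲.exists_eq (g x)
    obtain ⟨z, hz, -⟩ := Scheme.Pullback.exists_preimage_pullback (f := g) (g := 𝒲.f i) x y hy.symm
    exact ⟨i, z, hz⟩
  refine BCVertLib.isIso_bcQ_of_local g f f' g' h F q U hU V (fun i => pullback.snd g (𝒲.f i))
    (fun i => pullback.condition.symm) (fun i => pullback f (𝒲.f i))
    (fun i => pullback (pullback.snd f (𝒲.f i)) (pullback.snd g (𝒲.f i)))
    (fun i => pullback.snd f (𝒲.f i)) (fun i => pullback.fst f (𝒲.f i)) (fun i => IsPullback.of_hasPullback f (𝒲.f i))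
    (fun i => pullback.snd _ _) (fun i => pullback.fst _ _) (fun i => IsPullback.of_hasPullback _ _) fun i => ?_
  haveI : IsAffine (𝒲.X i) := inferInstance
  let fi := pullback.snd f (𝒲.f i)
  haveI : CompactSpace ↥(pullback f (𝒲.f i)) := QuasiCompact.compactSpace_of_compactSpace fi
  haveI : QuasiSeparatedSpace ↥(pullback f (𝒲.f i)) := quasiSeparatedSpace_of_quasiSeparated fi
  exact isIso_bcQ_of_goodEmb (L := L) fi _ _ (IsPullback.of_hasPullback _ _).w
    (fun G hG => exists_mono_good fi _ _ (hg.baseChange (IsPullback.of_hasPullback g (𝒲.f i)))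
      (IsPullback.of_hasPullback _ _) G hG) q hq _ (AcycCompLib.isLTorsion_pull _ hF)

end Groth.Agent.UAcycBCLib
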