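import Groth.Agent.UAcycBCLib.Clopen
import Groth.Agent.AcycFibLib.Via
import Groth.Agent.ProEtLib2.LocColimit
import Groth.Agent.SmoothBCLib.Limit
import Mathlib.AlgebraicGeometry.AffineTransitionLimit
import Groth.Agent.WEField.Basic
import Groth.Agent.WLocalLib.WeakEtaleScheme
import Groth.Agent.WLocalLib.UnivHomeoEtale
import Groth.Agent.SmoothBCLib.Stalks
import Groth.Agent.ASp.OnePoint

/-!
# Fibres over a point of an affine scheme with field stalks

The point has a basis of open and closed neighbourhoods: classes on the fibre extend to the whole scheme, and if the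
fibre is empty then so is the piece over some neighbourhood.
-/

set_option autoImplicit false
set_option linter.style.haveILetI false
set_option linter.unusedSectionVars false
set_option backward.isDefEq.respectTransparency false
set_option backward.isDefEq.respectTransparency.types false
set_option maxHeartbeats 1000000
set_option synthInstance.maxHeartbeats 400000

universe u

open CategoryTheory CategoryTheory.Limits AlgebraicGeometry Opposite
open Groth.Agent.EtLimLib Groth.Agent.EtPtsLib

attribute [local instance] Groth.Agent.S0101.result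

noncomputable section

namespace Groth.Agent.UAcycBCLib

/-- Schemes weakly étale over a field have fields as local rings. -/
theorem isField_stalk_of_weaklyEtale_field {K : Type u} [Field K] {V : Scheme.{u}}
    (f : V ⟶ Spec (CommRingCat.of K)) [WeaklyEtale f] (v : V) : IsField (V.presheaf.stalk v) := by
  let B := (Spec (CommRingCat.of K)).presheaf.stalk (f v)
  have hK : IsField B := ASp.isField_stalk_of_etale_field (𝟙 _) (f v)
  letI : Field B := hK.toField
  letI : Algebra B (V.presheaf.stalk v) := (f.stalkMap v).hom.toAlgebra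
  haveI := WLocalLib.weaklyEtale_specMap_stalkMap f v
  haveI : Algebra.WeaklyEtale B (V.presheaf.stalk v) := WLocalLib.weaklyEtale_of_specMap
  haveI : Algebra.IsIntegral B (V.presheaf.stalk v) := WEField.isIntegral_of_weaklyEtale _
  haveI : _root_.IsReduced (V.presheaf.stalk v) := WLocalLib.isReduced_of_weaklyEtale B _
  haveI : Ring.KrullDimLE 0 (V.presheaf.stalk v) := Ring.KrullDimLE.mk₀ fun P hP => by
    haveI := hP
    haveI : (P.under B).IsMaximal := by rw [Ideal.eq_bot_of_prime (P.under B)]; exact Ideal.bot_isMaximal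
    exact Ideal.isMaximal_of_isIntegral_of_isMaximal_comap P ‹_›
  exact Ring.KrullDimLE.isField_of_isReduced

/-- Principal opens are closed when the local rings are fields. -/
theorem isClosed_range_away {R : Type u} [CommRing R] (hR : ∀ p : PrimeSpectrum R, IsField (Localization.AtPrime p.asIdeal))
    (a : R) : IsClosed (PrimeSpectrum.basicOpen a : Set (PrimeSpectrum R)) := by
  rw [← isOpen_compl_iff, isOpen_iff_forall_mem_open]
  intro p hp
  have ha : a ∈ p.asIdeal := by simpa [PrimeSpectrum.mem_basicOpen] using hp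
  have h0 : algebraMap R (Localization.AtPrime p.asIdeal) a = 0 := by
    by_contra hne
    letI := (hR p).toField
    exact (IsLocalization.AtPrime.isUnit_to_map_iff _ p.asIdeal a).1 (isUnit_iff_ne_zero.2 hne) ha
  obtain ⟨⟨c, hc⟩, hca⟩ := (IsLocalization.map_eq_zero_iff p.asIdeal.primeCompl _ a).1 h0
  refine ⟨PrimeSpectrum.basicOpen c, fun q hq hqa => ?_, (PrimeSpectrum.basicOpen c).2, hc⟩
  have : c * a ∈ q.asIdeal := by
    rw [show c * a = 0 from hca]
    exact zero_mem _
  rcases q.isPrime.mem_or_mem this with h | h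
  · exact hq h
  · exact hqa h

/-- **The unit class of an open and closed piece.** -/
theorem exists_class_clopen {D V C P : Scheme.{u}} (j : D ⟶ V) [IsOpenImmersion j] (hj : IsClosed (Set.range j))
    (π : C ⟶ V) (hπ : ∀ c, π c ∉ Set.range j) (z : P ⟶ V) (ζ : P ⟶ D) (hz : ζ ≫ j = z) (F : EtCoh.Ab V) (q : ℕ)
    (o : EtCoh.H V F q) : ∃ e : EtCoh.H V F q, EtCore.Hpull π F q e = 0 ∧
      EtCore.Hpull z F q e = EtCore.Hpull z F q o := by
  haveI := isSplitEpi_unit_clopen j hj F
  let G := (EtCoh.push j).obj ((EtCoh.pull j).obj F)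
  let η : F ⟶ G := (EtCoh.pullPushAdj j).unit.app F
  haveI : IsSplitEpi η := ‹IsSplitEpi ((EtCoh.pullPushAdj j).unit.app F)›
  let s : G ⟶ F := section_ η
  refine ⟨Sheaf.H.map s q (Sheaf.H.map η q o), ?_, ?_⟩
  · have hG : IsZero ((EtCoh.pull π).obj G) := SmoothBCLib.isZero_of_points _ fun c => by
      let Ω := AlgebraicClosure (C.residueField c)
      let ξ : Spec (CommRingCat.of Ω) ⟶ C :=
        Spec.map (CommRingCat.ofHom (algebraMap (C.residueField c) Ω)) ≫ C.fromSpecResidueField c
      have hξ : ξ default = c := by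
        exact (Scheme.Hom.comp_apply _ _ _).trans (C.fromSpecResidueField_apply c _)
      refine ⟨Ω, inferInstance, inferInstance, ξ, hξ, ?_⟩
      refine IsZero.of_iso ?_ ((EtPtsLib.pullStalkIso π ξ AddCommGrpCat.{u + 1}).app G)
      refine isZero_stalk_push_ab j (ξ ≫ π) hj ?_ _
      rw [Scheme.Hom.comp_apply, hξ]
      exact hπ c
    rw [CompBCLib.Hpull_map π s]
    haveI : Subsingleton (EtCoh.H C ((EtCoh.pull π).obj G) q) :=
      AddCommGrpCat.subsingleton_of_isZero ((EtCoh.HF C q).map_isZero hG)
    rw [Subsingleton.elim (EtCore.Hpull π G q _) 0, map_zero]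
  · set d := Sheaf.H.map s q (Sheaf.H.map η q o) - o with hd
    have h1 : Sheaf.H.map η q d = 0 := by
      rw [hd, map_sub, CompBCLib.H_map_map s η, IsSplitEpi.id η, CompBCLib.H_map_id, sub_self]
    have h2 : EtCore.Hpull j F q d = 0 := by
      have h3 : Sheaf.H.map ((EtCoh.pull j).map η) q (EtCore.Hpull j F q d) = 0 := by
        rw [← CompBCLib.Hpull_map j η, h1, map_zero]
      let cu : (EtCoh.pull j).obj G ⟶ (EtCoh.pull j).obj F := (EtCoh.pullPushAdj j).counit.app ((EtCoh.pull j).obj F)
      have htri : (EtCoh.pull j).map η ≫ cu = 𝟙 _ := (EtCoh.pullPushAdj j).left_triangle_components F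
      have h4 := congrArg (Sheaf.H.map cu q) h3
      rw [CompBCLib.H_map_map, htri, map_zero] at h4
      exact (CompBCLib.H_map_id q _).symm.trans h4
    have h5 : EtCore.Hpull z F q d = 0 := by rw [← CompBCLib.HpullVia_Hpull j ζ z hz F q d, h2, map_zero]
    rw [hd, map_sub, sub_eq_zero] at h5
    exact h5

/-- **The fibre over a point with section field.** -/
theorem fibre_clopen {R Ω : Type u} [CommRing R] [Field Ω]
    (hR : ∀ p : PrimeSpectrum R, IsField (Localization.AtPrime p.asIdeal)) (χ : R →+* Ω)
    (hχ : Function.Surjective χ) {C : Scheme.{u}} (π : C ⟶ Spec (CommRingCat.of R)) [QuasiCompact π]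
    [QuasiSeparated π] :
    let z := Spec.map (CommRingCat.ofHom χ)
    (∀ (F : EtCoh.Ab C) (q : ℕ), Function.Surjective (EtCore.Hpull (pullback.fst π z) F q)) ∧
      (IsEmpty ↥(pullback π z) → ∃ (D : Scheme.{u}) (j : D ⟶ Spec (CommRingCat.of R)) (_ : IsOpenImmersion j)
        (ζ : Spec (CommRingCat.of Ω) ⟶ D), IsClosed (Set.range j) ∧ ζ ≫ j = z ∧ ∀ c, π c ∉ Set.range j) := by
  intro z
  letI : Algebra R Ω := χ.toAlgebra
  haveI := RingHom.ker_isPrime χ
  let M := (RingHom.ker χ).primeCompl
  haveI : IsLocalization M Ω := by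
    refine (isLocalization_iff _ _).2 ⟨fun s => isUnit_iff_ne_zero.2 fun h => s.2 (RingHom.mem_ker.2 h), fun w => ?_,
      fun {x y} h => ?_⟩
    · obtain ⟨r, rfl⟩ := hχ w
      exact ⟨(r, 1), by simp; rfl⟩
    · have hxy : x - y ∈ RingHom.ker χ := by
        rw [RingHom.mem_ker, map_sub, sub_eq_zero]
        exact h
      let p : PrimeSpectrum R := ⟨RingHom.ker χ, inferInstance⟩
      have h0 : algebraMap R (Localization.AtPrime p.asIdeal) (x - y) = 0 := by
        by_contra hne
        letI := (hR p).toField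
        exact (IsLocalization.AtPrime.isUnit_to_map_iff _ p.asIdeal (x - y)).1 (isUnit_iff_ne_zero.2 hne) hxy
      obtain ⟨c, hc⟩ := (IsLocalization.map_eq_zero_iff M _ (x - y)).1 h0
      rw [mul_sub, sub_eq_zero] at hc
      exact ⟨c, hc⟩
  let D : (ProEtLib2.DvdIdx M)ᵒᵖ ⥤ Scheme.{u} := (ProEtLib2.awayDiagram M).op ⋙ Scheme.Spec
  let s : ∀ i, D.obj i ⟶ Spec (CommRingCat.of R) := fun i =>
    Spec.map (CommRingCat.ofHom (algebraMap R (Localization.Away i.unop.val)))
  have hs : ∀ ⦃i j : (ProEtLib2.DvdIdx M)ᵒᵖ⦄ (a : i ⟶ j), D.map a ≫ s j = s i := fun i j a =>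
    (Spec.map_comp _ _).symm.trans (congrArg Spec.map (CommRingCat.hom_ext (RingHom.ext fun x =>
      ProEtLib2.awayMap_algebraMap (leOfHom a.unop) x)))
  let c : Cone D := Scheme.Spec.mapCone (ProEtLib2.awayCocone M Ω).op
  have hc : IsLimit c := isLimitOfPreserves Scheme.Spec (ProEtLib2.isColimitAwayCocone M Ω).op
  have hτ : ∀ i, c.π.app i ≫ s i = z := fun i =>
    (Spec.map_comp _ _).symm.trans (congrArg Spec.map (CommRingCat.hom_ext (RingHom.ext fun x =>
      ProEtLib2.toLoc_algebraMap M Ω i.unop x)))
  haveI hso : ∀ i, IsOpenImmersion (s i) := fun i =>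
    IsOpenImmersion.of_isLocalization (S := Localization.Away i.unop.val) i.unop.val
  have hsc : ∀ i, IsClosed (Set.range (s i)) := fun i => by
    have h := PrimeSpectrum.localization_away_comap_range (Localization.Away i.unop.val) i.unop.val
    exact h ▸ isClosed_range_away hR i.unop.val
  haveI hsci : ∀ i, IsClosedImmersion (s i) := fun i => IsClosedImmersion.of_isPreimmersion _ (hsc i)
  haveI haff : ∀ i, IsAffine (D.obj i) := fun i => inferInstanceAs (IsAffine (Spec _))
  haveI : CompactSpace ↥C := QuasiCompact.compactSpace_of_compactSpace π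
  haveI : QuasiSeparatedSpace ↥C := quasiSeparatedSpace_of_quasiSeparated π
  have hcl : ∀ i, IsClosedImmersion (pullback.fst π (s i)) ∧ IsOpenImmersion (pullback.fst π (s i)) := fun i =>
    ⟨MorphismProperty.pullback_fst _ _ (hsci i), MorphismProperty.pullback_fst _ _ (hso i)⟩
  let S₁ : Sys (ProEtLib2.DvdIdx M) :=
    { Xs := SmoothBCLib.pbDiag D s hs π
      aff := fun a b f => by
        exact MorphismProperty.of_isPullback (P := @IsAffineHom)
          (show IsPullback ((SmoothBCLib.pbDiag D s hs π).map f) (pullback.snd π (s a)) (pullback.snd π (s b)) (D.map f) from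
            IsPullback.of_right (h₁₂ := pullback.fst π (s b)) (v₁₃ := π) (h₂₂ := s b)
              (by simpa [hs f] using IsPullback.of_hasPullback π (s a)) (by simp) (IsPullback.of_hasPullback π (s b))).flip
          inferInstance
      qc := fun a => QuasiCompact.compactSpace_of_compactSpace (pullback.snd π (s a))
      qs := fun a => quasiSeparatedSpace_of_quasiSeparated (pullback.snd π (s a))
      c := SmoothBCLib.pbCone D s hs π c z hτ
      hc := SmoothBCLib.isLimitPbCone D s hs π c z hτ hc }
  let O : OverSys.Over S₁ C :=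
    { q := fun i => pullback.fst π (s (op i))
      g := pullback.fst π z
      hq := fun i j a => by simp [Sys.t, S₁]
      hg := fun i => by simp [Sys.u, S₁] }
  refine ⟨fun F q w => ?_, fun hE => ?_⟩
  · obtain ⟨i, x, rfl⟩ := (AcycFibLib.over_continuity O F q).1 w
    haveI := (hcl (op i)).2
    obtain ⟨y, rfl⟩ := surjective_Hpull_clopen (O.q i) (hcl (op i)).1.base_closed.isClosed_range F q x
    exact ⟨y, (CompBCLib.HpullVia_Hpull (O.q i) (S₁.u i) O.g (O.hg i) F q y).symm⟩
  · by_cases h : ∀ i, Nonempty ↥((SmoothBCLib.pbDiag D s hs π).obj i)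
    · haveI : ∀ {i j} (f : i ⟶ j), IsAffineHom ((SmoothBCLib.pbDiag D s hs π).map f) := fun {i j} f => S₁.aff f
      haveI : ∀ i, CompactSpace ↥((SmoothBCLib.pbDiag D s hs π).obj i) := fun i => S₁.qc i
      haveI := h
      exact absurd (Scheme.nonempty_of_isLimit _ _ S₁.hc) (not_nonempty_iff.2 hE)
    · rw [not_forall] at h
      obtain ⟨i, hi⟩ := h
      refine ⟨D.obj i, s i, hso i, c.π.app i, hsc i, hτ i, fun x ⟨d, hd⟩ => hi ?_⟩
      obtain ⟨w, -, -⟩ := Scheme.Pullback.exists_preimage_pullback x d hd.symm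
      exact ⟨w⟩

end Groth.Agent.UAcycBCLib
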