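import Groth.Agent.UAcycBCLib.Trick

/-!
# Classes at a point of a stage
-/

set_option autoImplicit false
set_option linter.style.haveILetI false
set_option linter.unusedSectionVars false
set_option backward.isDefEq.respectTransparency false
set_option backward.isDefEq.respectTransparency.types false
set_option maxHeartbeats 1000000

universe u

open CategoryTheory CategoryTheory.Limits AlgebraicGeometry Opposite

attribute [local instance] Groth.Agent.S0101.result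

noncomputable section

namespace Groth.Agent.UAcycBCLib

/-- Relative pullbacks and composition isomorphisms. -/
theorem HpullVia_cp {A B C D : Scheme.{u}} (a : B ⟶ A) (b : C ⟶ B) (c : D ⟶ C) (n₁ : C ⟶ A) (w₁ : b ≫ a = n₁)
    (n₂ : D ⟶ B) (w₂ : c ≫ b = n₂) (m : D ⟶ A) (w₃ : n₂ ≫ a = m) (w₄ : c ≫ n₁ = m) (F : EtCoh.Ab A) (q : ℕ)
    (x : EtCoh.H C ((EtCoh.pull b).obj ((EtCoh.pull a).obj F)) q) :
    EtCore.HpullVia c n₁ m w₄ F q (Sheaf.H.map (PBCLib.cp a b n₁ w₁ F).hom q x) =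
      Sheaf.H.map (PBCLib.cp a n₂ m w₃ F).hom q (EtCore.HpullVia c b n₂ w₂ ((EtCoh.pull a).obj F) q x) := by
  show Sheaf.H.map (PBCLib.cp n₁ c m w₄ F).hom q (EtCore.Hpull c ((EtCoh.pull n₁).obj F) q
      (Sheaf.H.map (PBCLib.cp a b n₁ w₁ F).hom q x)) =
    Sheaf.H.map (PBCLib.cp a n₂ m w₃ F).hom q (Sheaf.H.map (PBCLib.cp b c n₂ w₂ ((EtCoh.pull a).obj F)).hom q
      (EtCore.Hpull c _ q x))
  rw [CompBCLib.Hpull_map c]
  refine (CompBCLib.H_map_map _ _ q _).trans (Eq.trans ?_ (CompBCLib.H_map_map _ _ q _).symm)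
  exact congrArg (fun k => Sheaf.H.map k q (EtCore.Hpull c _ q x))
    (PBCLib.cp_assoc a b c n₁ w₁ n₂ w₂ m w₃ w₄ F)

theorem H_map_inv_hom {Z : Scheme.{u}} {a b : EtCoh.Ab Z} (e : a ≅ b) (q : ℕ) (x : EtCoh.H Z b q) :
    Sheaf.H.map e.hom q (Sheaf.H.map e.inv q x) = x := by
  rw [CompBCLib.H_map_map, e.inv_hom_id, CompBCLib.H_map_id]

variable {C W W₂ P T S : Scheme.{u}} (p : W ⟶ T) (p₂ : W₂ ⟶ T) (r : W ⟶ W₂) (hr : r ≫ p₂ = p)
  (τ : P ⟶ T) (z : P ⟶ W₂) (hz : z ≫ p₂ = τ) (t : T ⟶ S) (n₁ : W ⟶ S) (w₁ : p ≫ t = n₁)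
  (n₂ : W₂ ⟶ S) (w₂ : p₂ ≫ t = n₂) (τS : P ⟶ S) (wτ : τ ≫ t = τS) (F₀ : EtCoh.Ab S) (q : ℕ)

include hr hz w₁ wτ in
/-- If the classes of `τ_* τ⁻¹ F` on `W` come from `W₂`, the classes of `F` pulled back from `W` to `C` come from
the point. -/
theorem exists_point_class (u : C ⟶ W) (v : C ⟶ P) (huv : u ≫ r = v ≫ z) (gS : C ⟶ S) (hu : u ≫ n₁ = gS)
    (hv : v ≫ τS = gS)
    (hs : Function.Surjective
      (EtCore.HpullVia r p₂ p hr ((EtCoh.push τ).obj ((EtCoh.pull τ).obj ((EtCoh.pull t).obj F₀))) q))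
    (x : EtCoh.H W ((EtCoh.pull n₁).obj F₀) q) :
    ∃ η : EtCoh.H P ((EtCoh.pull τS).obj F₀) q,
      EtCore.HpullVia v τS gS hv F₀ q η = EtCore.HpullVia u n₁ gS hu F₀ q x := by
  let gC := u ≫ p
  have hgC : v ≫ τ = gC := by
    show v ≫ τ = u ≫ p
    rw [← hr, ← Category.assoc u, huv, Category.assoc, hz]
  have hg : gC ≫ t = gS := by
    show (u ≫ p) ≫ t = gS
    rw [Category.assoc, w₁, hu]
  obtain ⟨z₀, hz₀⟩ := exists_HpullVia_eq p p₂ r hr τ z hz u v huv gC rfl hgC ((EtCoh.pull t).obj F₀) q hs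
    (Sheaf.H.map (PBCLib.cp t p n₁ w₁ F₀).inv q x)
  refine ⟨Sheaf.H.map (PBCLib.cp t τ τS wτ F₀).hom q z₀, ?_⟩
  rw [HpullVia_cp t τ v τS wτ gC hgC gS hg hv F₀ q z₀]
  have h := HpullVia_cp t p u n₁ w₁ gC rfl gS hg hu F₀ q (Sheaf.H.map (PBCLib.cp t p n₁ w₁ F₀).inv q x)
  rw [H_map_inv_hom] at h
  exact (congrArg _ hz₀).trans h.symm

include hr hz w₁ w₂ wτ in
/-- If the classes of `τ_* τ⁻¹ F` on `W₂` inject into those on `W`, the classes of `F` on `W₂` killed on `W` are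
killed at the point. -/
theorem eq_zero_point_class (hn : r ≫ n₂ = n₁) (hzn : z ≫ n₂ = τS)
    (hi : Function.Injective
      (EtCore.HpullVia r p₂ p hr ((EtCoh.push τ).obj ((EtCoh.pull τ).obj ((EtCoh.pull t).obj F₀))) q))
    (x : EtCoh.H W₂ ((EtCoh.pull n₂).obj F₀) q) (hx : EtCore.HpullVia r n₂ n₁ hn F₀ q x = 0) :
    EtCore.HpullVia z n₂ τS hzn F₀ q x = 0 := by
  let F := (EtCoh.pull t).obj F₀
  let M := (EtCoh.push τ).obj ((EtCoh.pull τ).obj F)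
  let a : F ⟶ M := (EtCoh.pullPushAdj τ).unit.app F
  let c : (EtCoh.pull τ).obj M ⟶ (EtCoh.pull τ).obj F := (EtCoh.pullPushAdj τ).counit.app _
  have htri : (EtCoh.pull τ).map a ≫ c = 𝟙 _ := (EtCoh.pullPushAdj τ).left_triangle_components F
  obtain ⟨x', rfl⟩ : ∃ x', Sheaf.H.map (PBCLib.cp t p₂ n₂ w₂ F₀).hom q x' = x := ⟨_, H_map_inv_hom _ q x⟩
  rw [HpullVia_cp t p₂ r n₂ w₂ p hr n₁ w₁ hn F₀ q x'] at hx
  have h1 : EtCore.HpullVia r p₂ p hr F q x' = 0 := by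
    have := congrArg (Sheaf.H.map (PBCLib.cp t p n₁ w₁ F₀).inv q) hx
    rw [map_zero, CompBCLib.H_map_map, Iso.hom_inv_id, CompBCLib.H_map_id] at this
    exact this
  have h2 : Sheaf.H.map ((EtCoh.pull p₂).map a) q x' = 0 := by
    refine hi ?_
    refine (CompBCLib.HpullVia_natural p₂ r p hr a q x').trans ?_
    rw [h1, map_zero, map_zero]
  have h3 : EtCore.HpullVia z p₂ τ hz F q x' = 0 := by
    have h4 := CompBCLib.HpullVia_natural p₂ z τ hz a q x'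
    rw [h2, map_zero] at h4
    have h5 := congrArg (Sheaf.H.map c q) h4.symm
    rw [CompBCLib.H_map_map, htri, map_zero] at h5
    exact (CompBCLib.H_map_id q _).symm.trans h5
  rw [HpullVia_cp t p₂ z n₂ w₂ τ hz τS wτ hzn F₀ q x', h3, map_zero]

end Groth.Agent.UAcycBCLib
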