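import Groth.Agent.UAcycBCLib.FibClopen
import Groth.Agent.UAcycBCLib.PointClass

/-!
# Classes on a fibre over a point of a limit of stages
-/

set_option autoImplicit false
set_option linter.style.haveILetI false
set_option linter.unusedSectionVars false
set_option backward.isDefEq.respectTransparency false
set_option backward.isDefEq.respectTransparency.types false
set_option maxHeartbeats 1000000
set_option synthInstance.maxHeartbeats 400000

universe u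

open CategoryTheory CategoryTheory.Limits AlgebraicGeometry Opposite
open Groth.Agent.EtLimLib Groth.Agent.AcycFibLib

attribute [local instance] Groth.Agent.S0101.result

noncomputable section

namespace Groth.Agent.UAcycBCLib

/-- The fibre over a section point of an affine scheme weakly étale over a field. -/
theorem point_clopen {V C Fib : Scheme.{u}} [IsAffine V] {Ω : Type u} [Field Ω] (w : V ⟶ Spec (CommRingCat.of Ω))
    [WeaklyEtale w] (π : C ⟶ V) [QuasiCompact π] [QuasiSeparated π] (z' : Spec (CommRingCat.of Ω) ⟶ V)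
    (hzw : z' ≫ w = 𝟙 _) (ι : Fib ⟶ C) (v : Fib ⟶ Spec (CommRingCat.of Ω)) (sqF : IsPullback ι v π z') :
    (∀ (F : EtCoh.Ab C) (q : ℕ), Function.Surjective (EtCore.Hpull ι F q)) ∧
      (IsEmpty ↥Fib → ∀ (F : EtCoh.Ab V) (q : ℕ) (o : EtCoh.H V F q), ∃ ev : EtCoh.H V F q,
        EtCore.Hpull π F q ev = 0 ∧ EtCore.Hpull z' F q ev = EtCore.Hpull z' F q o) := by
  let e := V.isoSpec
  let R := Γ(V, ⊤)
  let χ : R ⟶ CommRingCat.of Ω := Spec.preimage (z' ≫ e.hom)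
  have hχ : Function.Surjective χ.hom := by
    let σ : CommRingCat.of Ω ⟶ R := Spec.preimage (e.inv ≫ w)
    have h1 : σ ≫ χ = 𝟙 _ := Spec.map_injective (by
      rw [Spec.map_comp, Spec.map_preimage, Spec.map_preimage, Spec.map_id, Category.assoc, Iso.hom_inv_id_assoc]
      exact hzw)
    exact fun a => ⟨σ.hom a, congrArg (fun k => k.hom a) h1⟩
  have hR : ∀ p : PrimeSpectrum R, IsField (Localization.AtPrime p.asIdeal) := fun p => by
    have h1 := isField_stalk_of_weaklyEtale_field w (e.inv p)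
    have h2 : IsField ((Spec R).presheaf.stalk p) :=
      MulEquiv.isField h1 (asIso (e.inv.stalkMap p)).commRingCatIsoToRingEquiv.symm.toMulEquiv
    exact MulEquiv.isField h2 (StructureSheaf.stalkIso R p).toRingEquiv.toMulEquiv
  obtain ⟨hsurj, hempty⟩ := fibre_clopen hR χ.hom hχ (π ≫ e.hom)
  have hzz : Spec.map (CommRingCat.ofHom χ.hom) = z' ≫ e.hom := Spec.map_preimage _
  have sqF' : IsPullback ι v (π ≫ e.hom) (Spec.map (CommRingCat.ofHom χ.hom)) := by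
    rw [hzz]
    exact sqF.of_iso (Iso.refl _) (Iso.refl _) (Iso.refl _) e (by simp) (by simp) (by simp) (by simp)
  let E := sqF'.isoPullback
  have hE : E.hom ≫ pullback.fst _ _ = ι := sqF'.isoPullback_hom_fst
  refine ⟨fun F q y => ?_, fun hem F q o => ?_⟩
  · have hb := (bijective_HpullVia_iff E.hom (pullback.fst _ _) ι hE F q).2
      (PBCLib.bijective_Hpull_of_isIso E.hom _ q)
    obtain ⟨y', rfl⟩ := hb.2 y
    obtain ⟨y₀, rfl⟩ := hsurj F q y'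
    exact ⟨y₀, (CompBCLib.HpullVia_Hpull _ E.hom ι hE F q y₀).symm⟩
  · haveI : IsEmpty ↥(pullback (π ≫ e.hom) (Spec.map (CommRingCat.ofHom χ.hom))) := Function.isEmpty E.inv
    obtain ⟨D, j, hj, ζ, hjc, hζ, hdis⟩ := hempty ‹_›
    let j' := j ≫ e.inv
    have hjc' : IsClosed (Set.range j') := by
      rw [show Set.range j' = e.inv '' Set.range j by
        show Set.range (fun d => e.inv (j d)) = _
        exact Set.range_comp _ _]
      exact e.inv.homeomorph.isClosedMap _ hjc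
    exact exists_class_clopen j' hjc' π (fun c ⟨d, hd⟩ => hdis c ⟨d, by
      rw [Scheme.Hom.comp_apply, ← hd, ← Scheme.Hom.comp_apply, Category.assoc, Iso.inv_hom_id, Category.comp_id]⟩)
      z' ζ (by
        rw [← cancel_mono e.hom, Category.assoc, Category.assoc, Iso.inv_hom_id, Category.comp_id, hζ, hzz]) F q o

variable {ι₀ : Type u} [Preorder ι₀] [IsDirected ι₀ (· ≤ ·)] [Nonempty ι₀] {SW SV : Sys ι₀} {S P Fib : Scheme.{u}}
  (OW : OverSys.Over SW S) (OV : OverSys.Over SV S) (π : SW.c.pt ⟶ SV.c.pt) (hgg : π ≫ OV.g = OW.g)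
  (r : ∀ i, SW.X i ⟶ SV.X i) (hru : ∀ i, SW.u i ≫ r i = π ≫ SV.u i) (hrq : ∀ i, r i ≫ OV.q i = OW.q i)
  (hrt : ∀ ⦃i k : ι₀⦄ (h : i ≤ k), r k ≫ SV.t h = SW.t h ≫ r i)
  (τ : P ⟶ S) {T : ι₀ → Scheme.{u}} (t : ∀ i, T i ⟶ S) (pt : ∀ i, P ⟶ T i) (wτ : ∀ i, pt i ≫ t i = τ)
  (pW : ∀ i, SW.X i ⟶ T i) (pV : ∀ i, SV.X i ⟶ T i) (hr : ∀ i, r i ≫ pV i = pW i)
  (w₁ : ∀ i, pW i ≫ t i = OW.q i) (w₂ : ∀ i, pV i ≫ t i = OV.q i)
  (z' : P ⟶ SV.c.pt) (hzi : ∀ i, (z' ≫ SV.u i) ≫ pV i = pt i) (hz1 : z' ≫ OV.g = τ)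
  (ι' : Fib ⟶ SW.c.pt) (v : Fib ⟶ P) (hι : ι' ≫ π = v ≫ z') (gF : Fib ⟶ S) (hι2 : ι' ≫ OW.g = gF) (hv : v ≫ τ = gF)
  (F₀ : EtCoh.Ab S) (q : ℕ)

include hru hr w₁ wτ hzi hι hι2 in
/-- Classes on the fibre come from the point. -/
theorem surjective_point_of_stages (hsurj : Function.Surjective (EtCore.Hpull ι' ((EtCoh.pull OW.g).obj F₀) q))
    (hs : ∀ i, Function.Surjective (EtCore.HpullVia (r i) (pV i) (pW i) (hr i)
      ((EtCoh.push (pt i)).obj ((EtCoh.pull (pt i)).obj ((EtCoh.pull (t i)).obj F₀))) q)) :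
    Function.Surjective (EtCore.HpullVia v τ gF hv F₀ q) := fun w => by
  obtain ⟨y, rfl⟩ := (surjective_HpullVia_iff ι' OW.g gF hι2 F₀ q).2 hsurj w
  obtain ⟨i, x₁, rfl⟩ := (over_continuity OW F₀ q).1 y
  have hu : (ι' ≫ SW.u i) ≫ OW.q i = gF := by rw [Category.assoc, OW.hg, hι2]
  obtain ⟨η, hη⟩ := exists_point_class (pW i) (pV i) (r i) (hr i) (pt i) (z' ≫ SV.u i) (hzi i) (t i) (OW.q i)
    (w₁ i) τ (wτ i) F₀ q (ι' ≫ SW.u i) v (by rw [Category.assoc, hru, ← Category.assoc, hι, Category.assoc]) gF hu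
    hv (hs i) x₁
  exact ⟨η, hη.trans (HpullVia_comp (OW.q i) (SW.u i) ι' OW.g (OW.hg i) (ι' ≫ SW.u i) rfl gF hu hι2 F₀ q x₁).symm⟩

include hgg hru hrq hrt hr w₁ w₂ wτ hzi hz1 in
/-- If the point has a separating class, it has no classes. -/
theorem eq_zero_point_of_stages (w : SV.c.pt ⟶ P) (hw : w ≫ τ = OV.g) (hzw : z' ≫ w = 𝟙 _)
    (hclass : ∀ o : EtCoh.H SV.c.pt ((EtCoh.pull OV.g).obj F₀) q, ∃ ev : EtCoh.H SV.c.pt ((EtCoh.pull OV.g).obj F₀) q,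
      EtCore.Hpull π _ q ev = 0 ∧ EtCore.Hpull z' _ q ev = EtCore.Hpull z' _ q o)
    (hi : ∀ i, Function.Injective (EtCore.HpullVia (r i) (pV i) (pW i) (hr i)
      ((EtCoh.push (pt i)).obj ((EtCoh.pull (pt i)).obj ((EtCoh.pull (t i)).obj F₀))) q))
    (η : EtCoh.H P ((EtCoh.pull τ).obj F₀) q) : η = 0 := by
  let o := EtCore.HpullVia w τ OV.g hw F₀ q η
  obtain ⟨ev, hev0, hev1⟩ := hclass o
  have hA : EtCore.HpullVia π OV.g OW.g hgg F₀ q ev = 0 := by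
    show Sheaf.H.map _ q (EtCore.Hpull π _ q ev) = 0
    rw [hev0, map_zero]
  have hB : EtCore.HpullVia z' OV.g τ hz1 F₀ q ev = EtCore.HpullVia z' OV.g τ hz1 F₀ q o :=
    congrArg (Sheaf.H.map (PBCLib.cp OV.g z' τ hz1 F₀).hom q) hev1
  obtain ⟨i, x₁, rfl⟩ := (over_continuity OV F₀ q).1 ev
  have c1 : (π ≫ SV.u i) ≫ OV.q i = OW.g := by rw [Category.assoc, OV.hg, hgg]
  have hA' : EtCore.HpullVia (SW.u i) (OW.q i) OW.g (OW.hg i) F₀ q
      (EtCore.HpullVia (r i) (OV.q i) (OW.q i) (hrq i) F₀ q x₁) = 0 :=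
    (HpullVia_comp (OV.q i) (r i) (SW.u i) (OW.q i) (hrq i) (π ≫ SV.u i) (hru i) OW.g c1 (OW.hg i) F₀ q x₁).trans
      ((HpullVia_comp (OV.q i) (SV.u i) π OV.g (OV.hg i) (π ≫ SV.u i) rfl OW.g c1 hgg F₀ q x₁).symm.trans hA)
  obtain ⟨k, hik, hk⟩ := (over_continuity OW F₀ q).2 i _ hA'
  let xk := EtCore.HpullVia (SV.t hik) (OV.q i) (OV.q k) (OV.hq hik) F₀ q x₁
  have c2 : (r k ≫ SV.t hik) ≫ OV.q i = OW.q k := by rw [Category.assoc, OV.hq, hrq]
  have hxk : EtCore.HpullVia (r k) (OV.q k) (OW.q k) (hrq k) F₀ q xk = 0 :=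
    (HpullVia_comp (OV.q i) (SV.t hik) (r k) (OV.q k) (OV.hq hik) _ rfl (OW.q k) c2 (hrq k) F₀ q x₁).trans
      ((HpullVia_comp (OV.q i) (r i) (SW.t hik) (OW.q i) (hrq i) _ (hrt hik).symm (OW.q k) c2 (OW.hq hik) F₀ q
        x₁).symm.trans hk)
  have hzk : (z' ≫ SV.u k) ≫ OV.q k = τ := by rw [Category.assoc, OV.hg, hz1]
  have h0 : EtCore.HpullVia (z' ≫ SV.u k) (OV.q k) τ hzk F₀ q xk = 0 :=
    eq_zero_point_class (pW k) (pV k) (r k) (hr k) (pt k) (z' ≫ SV.u k) (hzi k) (t k) (OW.q k) (w₁ k) (OV.q k)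
      (w₂ k) τ (wτ k) F₀ q (hrq k) hzk (hi k) xk hxk
  have h1 : EtCore.HpullVia (SV.u k) (OV.q k) OV.g (OV.hg k) F₀ q xk =
      EtCore.HpullVia (SV.u i) (OV.q i) OV.g (OV.hg i) F₀ q x₁ :=
    HpullVia_comp (OV.q i) (SV.t hik) (SV.u k) (OV.q k) (OV.hq hik) _ (SV.u_t hik) OV.g (OV.hg i) (OV.hg k) F₀ q x₁
  have hC : EtCore.HpullVia z' OV.g τ hz1 F₀ q o = 0 :=
    hB.symm.trans ((congrArg (EtCore.HpullVia z' OV.g τ hz1 F₀ q) h1.symm).trans
      ((HpullVia_comp (OV.q k) (SV.u k) z' OV.g (OV.hg k) (z' ≫ SV.u k) rfl τ hzk hz1 F₀ q xk).trans h0))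
  have h2 := HpullVia_comp τ w z' OV.g hw (𝟙 _) hzw τ (Category.id_comp τ) hz1 F₀ q η
  refine ((bijective_HpullVia_iff (𝟙 _) τ τ (Category.id_comp τ) F₀ q).2 (PBCLib.bijective_Hpull_of_isIso _ _ q)).1 ?_
  rw [map_zero]
  exact h2.symm.trans hC

end Groth.Agent.UAcycBCLib
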