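import Groth.Agent.AcycFibLib.Limit

/-!
# Quasi-finite stages of a field algebraic over a point of an affine scheme
-/

set_option autoImplicit false
set_option linter.style.haveILetI false
set_option linter.unusedSectionVars false
set_option backward.isDefEq.respectTransparency false
set_option backward.isDefEq.respectTransparency.types false
set_option maxHeartbeats 1000000
set_option synthInstance.maxHeartbeats 400000

universe u

open CategoryTheory CategoryTheory.Limits AlgebraicGeometry Opposite
open Groth.Agent.EtLimLib Groth.Agent.AcycFibLib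

noncomputable section

namespace Groth.Agent.UAcycBCLib

/-- An algebraic geometric point over an affine base is a union of quasi-finite algebras. -/
theorem indQF_of_residueFieldMap {A : Type u} [CommRing A] {Ω : Type u} [Field Ω] [Algebra A Ω]
    (s : Spec (CommRingCat.of A)) (ρ : (Spec (CommRingCat.of A)).residueField s ⟶ CommRingCat.of Ω)
    (hρ : ρ.hom.IsIntegral)
    (hs : Spec.map ρ ≫ (Spec (CommRingCat.of A)).fromSpecResidueField s =
      Spec.map (CommRingCat.ofHom (algebraMap A Ω))) : IndQF A Ω := by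
  let iA := Scheme.Spec.residueFieldIso (CommRingCat.of A) s
  letI : Algebra s.asIdeal.ResidueField Ω := (iA.inv ≫ ρ).hom.toAlgebra
  haveI : IsScalarTower A s.asIdeal.ResidueField Ω := IsScalarTower.of_algebraMap_eq' (by
    rw [← Scheme.Spec.map_residueFieldIso_inv_eq_fromSpecResidueField, ← Category.assoc, ← Spec.map_comp,
      ← Spec.map_comp] at hs
    exact (congrArg CommRingCat.Hom.hom (Spec.map_injective hs)).symm)
  haveI : Algebra.IsIntegral s.asIdeal.ResidueField Ω := ⟨by
    show (iA.inv ≫ ρ).hom.IsIntegral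
    rw [CommRingCat.hom_comp]
    exact RingHom.IsIntegral.trans _ _
      (RingHom.isIntegral_of_surjective _ iA.commRingCatIsoToRingEquiv.symm.surjective) hρ⟩
  haveI : Algebra.IsAlgebraic s.asIdeal.ResidueField Ω := inferInstance
  exact indQF_of_algebraic s.asIdeal

variable (A Ω : Type u) [CommRing A] [Field Ω] [Algebra A Ω]

/-- A stage over the base. -/
abbrev qfT (B : QfIdx A Ω) : Spec (CommRingCat.of B.1) ⟶ Spec (CommRingCat.of A) :=
  Spec.map (CommRingCat.ofHom (algebraMap A B.1))

/-- The point in a stage. -/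
abbrev qfPt (B : QfIdx A Ω) : Spec (CommRingCat.of Ω) ⟶ Spec (CommRingCat.of B.1) :=
  Spec.map (CommRingCat.ofHom B.1.val.toRingHom)

/-- The point over the base. -/
abbrev qfBase : Spec (CommRingCat.of Ω) ⟶ Spec (CommRingCat.of A) :=
  Spec.map (CommRingCat.ofHom (algebraMap A Ω))

theorem qfPt_qfT (B : QfIdx A Ω) : qfPt A Ω B ≫ qfT A Ω B = qfBase A Ω :=
  (Spec.map_comp _ _).symm.trans (congrArg Spec.map (CommRingCat.hom_ext (RingHom.ext fun _ => rfl)))

theorem locallyQuasiFinite_qfT (B : QfIdx A Ω) :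
    LocallyQuasiFinite (qfT A Ω B) ∧ LocallyOfFiniteType (qfT A Ω B) := by
  haveI := B.2.2
  haveI : Algebra.FiniteType A B.1 := (Subalgebra.fg_iff_finiteType B.1).1 B.2.1
  exact ⟨(HasRingHomProperty.Spec_iff (P := @LocallyQuasiFinite)).2
      (show (algebraMap A B.1).QuasiFinite from RingHom.quasiFinite_algebraMap.2 inferInstance),
    (HasRingHomProperty.Spec_iff (P := @LocallyOfFiniteType)).2
      (show (algebraMap A B.1).FiniteType from RingHom.finiteType_algebraMap.2 inferInstance)⟩

/-- The diagram of stages. -/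
abbrev qfSch : (QfIdx A Ω)ᵒᵖ ⥤ Scheme.{u} := (qfDiag (R := A) (P := Ω)).op ⋙ Scheme.Spec

theorem qfSch_map_qfT ⦃a b : (QfIdx A Ω)ᵒᵖ⦄ (f : a ⟶ b) :
    (qfSch A Ω).map f ≫ qfT A Ω b.unop = qfT A Ω a.unop :=
  (Spec.map_comp _ _).symm.trans (congrArg Spec.map (CommRingCat.hom_ext (RingHom.ext fun _ => rfl)))

variable {A Ω} (hP : IndQF A Ω) {W : Scheme.{u}} [IsAffine W] (m : W ⟶ Spec (CommRingCat.of A))

/-- The stages pulled back along `m`. -/
def qfPbSys : Sys (QfIdx A Ω) :=
  { Xs := SmoothBCLib.pbDiag (qfSch A Ω) (fun i => qfT A Ω i.unop) (qfSch_map_qfT A Ω) m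
    aff := fun a b f => by
      haveI : ∀ i, IsAffine ((qfSch A Ω).obj i) := fun i => inferInstanceAs (IsAffine (Spec _))
      haveI : ∀ i, IsAffine ((SmoothBCLib.pbDiag (qfSch A Ω) (fun i => qfT A Ω i.unop) (qfSch_map_qfT A Ω) m).obj i) :=
        fun i => inferInstanceAs (IsAffine (pullback m _))
      infer_instance
    qc := fun a => by
      haveI : IsAffine ((qfSch A Ω).obj a) := inferInstanceAs (IsAffine (Spec _))
      exact inferInstanceAs (CompactSpace ↥(pullback m (qfT A Ω a.unop)))
    qs := fun a => by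
      haveI : IsAffine ((qfSch A Ω).obj a) := inferInstanceAs (IsAffine (Spec _))
      exact inferInstanceAs (QuasiSeparatedSpace ↥(pullback m (qfT A Ω a.unop)))
    c := SmoothBCLib.pbCone (qfSch A Ω) (fun i => qfT A Ω i.unop) (qfSch_map_qfT A Ω) m
      (Scheme.Spec.mapCone (qfCocone (R := A) (P := Ω)).op) (qfBase A Ω) (fun i => qfPt_qfT A Ω i.unop)
    hc := SmoothBCLib.isLimitPbCone _ _ _ m _ _ _
      (isLimitOfPreserves Scheme.Spec (exists_isColimit_qfCocone hP).some.op) }

/-- The stages over the base. -/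
def qfPbOver : OverSys.Over (qfPbSys hP m) (Spec (CommRingCat.of A)) :=
  { q := fun i => pullback.snd m (qfT A Ω i) ≫ qfT A Ω i
    g := pullback.snd m (qfBase A Ω) ≫ qfBase A Ω
    hq := fun i j a => by
      refine (pullback.lift_snd_assoc _ _ _ _).trans ?_
      rw [Category.assoc]
      exact congrArg (pullback.snd m (qfT A Ω j) ≫ ·) (qfSch_map_qfT A Ω (homOfLE a).op)
    hg := fun i => by
      refine (pullback.lift_snd_assoc _ _ _ _).trans ?_
      rw [Category.assoc]
      exact congrArg (pullback.snd m (qfBase A Ω) ≫ ·) (qfPt_qfT A Ω i) }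

end Groth.Agent.UAcycBCLib
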