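import Groth.Agent.UAcycBCLib.Stage
import Groth.Agent.UAcycBCLib.QfSys
import Groth.Agent.UAcycBCLib.PointSys
import Groth.Agent.ProEtSLib.GeomLift
import Groth.Agent.ConstGenLib.SepPoint
import Groth.Agent.CdFieldLib.Basic
import Groth.Agent.SmoothBCLib.AcycFibre

/-!
# Geometric fibres of strict localizations from base change over quasi-finite stages

The geometric fibre is a limit of open and closed pieces of the pullback of the source to the point; classes on the
pullback come from quasi-finite stages, where those of sheaves pushed from the point come from the base.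
-/

set_option autoImplicit false
set_option linter.style.haveILetI false
set_option linter.unusedSectionVars false
set_option backward.isDefEq.respectTransparency false
set_option backward.isDefEq.respectTransparency.types false
set_option maxHeartbeats 1000000
set_option synthInstance.maxHeartbeats 400000

universe u

open CategoryTheory CategoryTheory.Limits AlgebraicGeometry Opposite IsLocalRing
open Groth.Agent.EtLimLib Groth.Agent.AcycFibLib

attribute [local instance] Groth.Agent.S0101.result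

noncomputable section

namespace Groth.Agent.UAcycBCLib

/-- A nonempty scheme whose classes of degree zero modulo a prime come from the coefficients is connected. -/
theorem connected_of_surjective_H0 {X : Scheme.{u}} [hne : Nonempty ↥X] {ℓ : ℕ} (hℓ : ℓ.Prime)
    (f : ZMod ℓ → EtCoh.H X (EtCoh.const X (ZMod ℓ)) 0) (hf : Function.Surjective f) : ConnectedSpace ↥X := by
  haveI : Fact ℓ.Prime := ⟨hℓ⟩
  let Q : EtCoh.H X (EtCoh.const X (ZMod ℓ)) 0 ≃ LocallyConstant X (ULift.{u + 1} (ZMod ℓ)) :=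
    ((Sheaf.H.equiv₀ (EtCoh.const X (ZMod ℓ)) (EtCore.topIsTerminal X)).trans
      (EtTraceLib.constEquiv (AddCommGrpCat.of (ULift.{u + 1} (ZMod ℓ))) (EtCoh.top X))).toEquiv
  obtain ⟨x₀⟩ := hne
  let c : ZMod ℓ → EtCoh.H X (EtCoh.const X (ZMod ℓ)) 0 := fun a => Q.symm (LocallyConstant.const X (ULift.up a))
  have hc : Function.Injective c := fun a b hab =>
    congrArg ULift.down (congrArg (fun g => g x₀) (Q.symm.injective hab))
  haveI : Finite (EtCoh.H X (EtCoh.const X (ZMod ℓ)) 0) := Finite.of_surjective f hf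
  have hfb : Function.Bijective f := (Nat.bijective_iff_surjective_and_card f).2
    ⟨hf, le_antisymm (Nat.card_le_card_of_injective c hc) (Nat.card_le_card_of_surjective f hf)⟩
  exact (SmoothBCLib.connected_of_H0_const hℓ (Equiv.ofBijective f hfb).symm).2

variable {L : Set ℕ} {n : ℕ} {A : Type u} [CommRing A] {X : Scheme.{u}}

/-- The base change conditions over quasi-finite stages of an affine base. -/
def StageBC (gU : X ⟶ Spec (CommRingCat.of A)) (L : Set ℕ) (n : ℕ) : Prop :=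
  ∀ {T : Scheme.{u}} (σ : T ⟶ Spec (CommRingCat.of A)) [LocallyQuasiFinite σ] [LocallyOfFiniteType σ] [QuasiCompact σ]
    [IsSeparated σ] (G : EtCoh.Ab T), EtAcyc.IsLTorsion L G →
    (∀ {Z : Scheme.{u}} (φ : T ⟶ Z) [QuasiCompact φ] [QuasiSeparated φ] (k : ℕ),
      IsZero ((EtCoh.Rpush φ (k + 1)).obj G)) →
    ∃ (Xb : Scheme.{u}) (hb : Xb ⟶ T) (pY : Xb ⟶ X) (sq : IsPullback hb pY σ gU),
      IsIso (EtCoh.baseChange0 σ gU pY hb sq.w G) ∧
      ∀ k : ℕ, k + 1 ≤ n → IsZero ((EtCoh.Rpush pY (k + 1)).obj ((EtCoh.pull hb).obj G))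

variable (gU : X ⟶ Spec (CommRingCat.of A)) (hst : StageBC gU L n)
  (x : X) (RY : Type u) [CommRing RY] [IsLocalRing RY]
  [Algebra ((Spec (CommRingCat.of A)).presheaf.stalk (gU x)) RY]
  [IsLocalHom (algebraMap ((Spec (CommRingCat.of A)).presheaf.stalk (gU x)) RY)]
  [Hensel.IsStrictHenselization ((Spec (CommRingCat.of A)).presheaf.stalk (gU x)) RY]
  (RX : Type u) [CommRing RX] [IsLocalRing RX] [Algebra (X.presheaf.stalk x) RX]
  [IsLocalHom (algebraMap (X.presheaf.stalk x) RX)] [Hensel.IsStrictHenselization (X.presheaf.stalk x) RX]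
  (ψ : RY →+* RX) [IsLocalHom ψ]
  (hψ : Hens2.specOf X x RX ≫ gU = Spec.map (CommRingCat.ofHom ψ) ≫ Hens2.specOf (Spec (CommRingCat.of A)) (gU x) RY)

include hst hψ in
/-- Classes on a geometric fibre come from the point; if the fibre is empty, the point has no classes. -/
theorem fibre_classes (Ω : Type u) [Field Ω] [IsSepClosed Ω] [Algebra A Ω] (hP : IndQF A Ω)
    (z : Spec (CommRingCat.of Ω) ⟶ Spec (CommRingCat.of RY))
    (hz : z ≫ Hens2.specOf (Spec (CommRingCat.of A)) (gU x) RY = qfBase A Ω)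
    (F₀ : EtCoh.Ab (Spec (CommRingCat.of A))) (hF₀ : EtAcyc.IsLTorsion L F₀) :
    let h := Spec.map (CommRingCat.ofHom ψ)
    (∀ q ≤ n, Function.Surjective (EtCore.HpullVia (pullback.snd h z) (qfBase A Ω)
        (pullback.snd h z ≫ qfBase A Ω) rfl F₀ q)) ∧
      (IsEmpty ↥(pullback h z) →
        ∀ η : EtCoh.H (Spec (CommRingCat.of Ω)) ((EtCoh.pull (qfBase A Ω)).obj F₀) 0, η = 0) := by
  intro h
  let S := Spec (CommRingCat.of A)
  let εY := Hens2.specOf S (gU x) RY
  let εX := Hens2.specOf X x RX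
  let a := εX ≫ gU
  let τ := qfBase A Ω
  have ha : a = h ≫ εY := hψ
  let π : pullback a τ ⟶ pullback εY τ :=
    pullback.map a τ εY τ h (𝟙 _) (𝟙 _) (by rw [Category.comp_id, ha]) (by simp)
  let z' : Spec (CommRingCat.of Ω) ⟶ pullback εY τ := pullback.lift z (𝟙 _) (by rw [hz, Category.id_comp])
  let ι : pullback h z ⟶ pullback a τ := pullback.lift (pullback.fst h z) (pullback.snd h z)
    (by rw [ha, pullback.condition_assoc, hz])
  -- the fibre as the fibre of `π` at the point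
  have sqCV : IsPullback π (pullback.fst a τ) (pullback.fst εY τ) h := by
    refine IsPullback.of_right (h₁₂ := pullback.snd εY τ) (v₁₃ := τ) (h₂₂ := εY) ?_ (pullback.lift_fst _ _ _)
      (IsPullback.of_hasPullback εY τ).flip
    rw [← ha, show π ≫ pullback.snd εY τ = pullback.snd a τ from (pullback.lift_snd _ _ _).trans (Category.comp_id _)]
    exact (IsPullback.of_hasPullback a τ).flip
  have hπι : ι ≫ π = pullback.snd h z ≫ z' := by
    apply pullback.hom_ext
    · simp [ι, π, z', pullback.condition]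
    · simp [ι, π, z']
  have sqF : IsPullback ι (pullback.snd h z) π z' := by
    refine IsPullback.of_right (h₁₂ := pullback.fst a τ) (v₁₃ := h) (h₂₂ := pullback.fst εY τ) ?_ hπι sqCV.flip
    rw [pullback.lift_fst, pullback.lift_fst]
    exact IsPullback.of_hasPullback h z
  -- the point of the affine scheme
  haveI : WeaklyEtale εY := ProEtSLib.weaklyEtale_specOf S (gU x) RY
  haveI : WeaklyEtale (pullback.snd εY τ) := MorphismProperty.pullback_snd _ _ ‹_›
  haveI : IsAffine (pullback εY τ) := inferInstance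
  haveI : QuasiCompact π := quasiCompact_of_compactSpace _
  obtain ⟨hsurj, hclass⟩ := point_clopen (pullback.snd εY τ) π z' (pullback.lift_snd _ _ _) ι (pullback.snd h z) sqF
  -- the systems
  let r : ∀ i, pullback a (qfT A Ω i) ⟶ pullback εY (qfT A Ω i) := fun i =>
    pullback.map a (qfT A Ω i) εY (qfT A Ω i) h (𝟙 _) (𝟙 _) (by rw [Category.comp_id, ha]) (by simp)
  have hrf : ∀ i, r i ≫ pullback.fst εY _ = pullback.fst a _ ≫ h := fun i => pullback.lift_fst _ _ _
  have hrs : ∀ i, r i ≫ pullback.snd εY _ = pullback.snd a _ := fun i =>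
    (pullback.lift_snd _ _ _).trans (Category.comp_id _)
  have hπf : π ≫ pullback.fst εY τ = pullback.fst a τ ≫ h := pullback.lift_fst _ _ _
  have hπs : π ≫ pullback.snd εY τ = pullback.snd a τ := (pullback.lift_snd _ _ _).trans (Category.comp_id _)
  let uW : ∀ i, pullback a τ ⟶ pullback a (qfT A Ω i) := fun i =>
    pullback.map a τ a (qfT A Ω i) (𝟙 _) (qfPt A Ω i) (𝟙 _) (by simp) (by rw [Category.comp_id, qfPt_qfT])
  let uV : ∀ i, pullback εY τ ⟶ pullback εY (qfT A Ω i) := fun i =>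
    pullback.map εY τ εY (qfT A Ω i) (𝟙 _) (qfPt A Ω i) (𝟙 _) (by simp) (by rw [Category.comp_id, qfPt_qfT])
  have hru : ∀ i, uW i ≫ r i = π ≫ uV i := fun i => by
    apply pullback.hom_ext
    · rw [Category.assoc, Category.assoc, hrf, pullback.lift_fst, pullback.lift_fst_assoc, Category.comp_id,
        Category.comp_id, hπf]
    · rw [Category.assoc, Category.assoc, hrs, pullback.lift_snd, pullback.lift_snd, ← Category.assoc, hπs]
  let tW : ∀ ⦃i k : QfIdx A Ω⦄, i ≤ k → (pullback a (qfT A Ω k) ⟶ pullback a (qfT A Ω i)) := fun i k hik =>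
    pullback.map _ _ _ _ (𝟙 _) ((qfSch A Ω).map (homOfLE hik).op) (𝟙 _) (by simp)
      (by rw [Category.comp_id]; exact (qfSch_map_qfT A Ω (homOfLE hik).op).symm)
  let tV : ∀ ⦃i k : QfIdx A Ω⦄, i ≤ k → (pullback εY (qfT A Ω k) ⟶ pullback εY (qfT A Ω i)) := fun i k hik =>
    pullback.map _ _ _ _ (𝟙 _) ((qfSch A Ω).map (homOfLE hik).op) (𝟙 _) (by simp)
      (by rw [Category.comp_id]; exact (qfSch_map_qfT A Ω (homOfLE hik).op).symm)
  have hrt : ∀ ⦃i k : QfIdx A Ω⦄ (hik : i ≤ k), r k ≫ tV hik = tW hik ≫ r i := fun i k hik => by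
    have e1 : tV hik ≫ pullback.fst εY _ = pullback.fst εY _ := (pullback.lift_fst _ _ _).trans (Category.comp_id _)
    have e2 : tW hik ≫ pullback.fst a _ = pullback.fst a _ := (pullback.lift_fst _ _ _).trans (Category.comp_id _)
    have e3 : tV hik ≫ pullback.snd εY _ = pullback.snd εY _ ≫ (qfSch A Ω).map (homOfLE hik).op := pullback.lift_snd _ _ _
    have e4 : tW hik ≫ pullback.snd a _ = pullback.snd a _ ≫ (qfSch A Ω).map (homOfLE hik).op := pullback.lift_snd _ _ _
    apply pullback.hom_ext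
    · rw [Category.assoc, Category.assoc, e1, hrf, hrf, ← Category.assoc, e2]
    · rw [Category.assoc, Category.assoc, e3, hrs, ← Category.assoc, hrs, e4]
  have hzi : ∀ i, (z' ≫ uV i) ≫ pullback.snd εY (qfT A Ω i) = qfPt A Ω i := fun i => by
    rw [Category.assoc, pullback.lift_snd, pullback.lift_snd_assoc, Category.id_comp]
  have hgg : π ≫ pullback.snd εY τ ≫ τ = pullback.snd a τ ≫ τ := by rw [← Category.assoc, hπs]
  have hrq : ∀ i, r i ≫ pullback.snd εY (qfT A Ω i) ≫ qfT A Ω i = pullback.snd a (qfT A Ω i) ≫ qfT A Ω i :=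
    fun i => by rw [← Category.assoc, hrs]
  have hι2 : ι ≫ pullback.snd a τ ≫ τ = pullback.snd h z ≫ τ := pullback.lift_snd_assoc _ _ _ _
  have hz1 : z' ≫ pullback.snd εY τ ≫ τ = τ := by rw [pullback.lift_snd_assoc, Category.id_comp]
  -- the stages
  haveI := PBCLib.isSepClosed_residueField_self Ω
  have key : ∀ i, Function.Bijective (EtCore.HpullVia (r i) (pullback.snd εY (qfT A Ω i))
        (pullback.snd a (qfT A Ω i)) (hrs i)
        ((EtCoh.push (qfPt A Ω i)).obj ((EtCoh.pull (qfPt A Ω i)).obj ((EtCoh.pull (qfT A Ω i)).obj F₀))) 0) ∧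
      ∀ q ≤ n, Function.Surjective (EtCore.HpullVia (r i) (pullback.snd εY (qfT A Ω i))
        (pullback.snd a (qfT A Ω i)) (hrs i)
        ((EtCoh.push (qfPt A Ω i)).obj ((EtCoh.pull (qfPt A Ω i)).obj ((EtCoh.pull (qfT A Ω i)).obj F₀))) q) := fun i => by
    haveI := (locallyQuasiFinite_qfT A Ω i).1
    haveI := (locallyQuasiFinite_qfT A Ω i).2
    obtain ⟨Xb, hb, pY, sq, hbc, hzero⟩ := hst (qfT A Ω i)
      ((EtCoh.push (qfPt A Ω i)).obj ((EtCoh.pull (qfPt A Ω i)).obj ((EtCoh.pull (qfT A Ω i)).obj F₀)))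
      (CdFieldLib.isLTorsion_push _ (AcycCompLib.isLTorsion_pull _ (AcycCompLib.isLTorsion_pull _ hF₀)))
      (fun φ _ _ k => ConstGenLib.isZero_Rpush_push_sepPoint _ φ _ k)
    exact bijective_stage gU (qfT A Ω i) hb pY sq _ hbc hzero x RY RX ψ hψ (pullback.snd a (qfT A Ω i))
      (pullback.fst a (qfT A Ω i)) (IsPullback.of_hasPullback a (qfT A Ω i)).flip (pullback.snd εY (qfT A Ω i))
      (pullback.fst εY (qfT A Ω i)) (IsPullback.of_hasPullback εY (qfT A Ω i)).flip (r i) _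
      (hrf i)
  refine ⟨fun q hq => ?_, fun hem η => ?_⟩
  · exact surjective_point_of_stages (SV := qfPbSys hP εY) (qfPbOver hP a) π r hru (qfBase A Ω) (qfT A Ω) (qfPt A Ω) (qfPt_qfT A Ω)
      (fun i => pullback.snd a (qfT A Ω i)) (fun i => pullback.snd εY (qfT A Ω i)) hrs (fun _ => rfl) z' hzi ι
      (pullback.snd h z) hπι (pullback.snd h z ≫ τ) hι2 rfl F₀ q (hsurj _ q) fun i => (key i).2 q hq
  · exact eq_zero_point_of_stages (qfPbOver hP a) (qfPbOver hP εY) π hgg r hru hrq hrt (qfBase A Ω) (qfT A Ω)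
      (qfPt A Ω) (qfPt_qfT A Ω) (fun i => pullback.snd a (qfT A Ω i)) (fun i => pullback.snd εY (qfT A Ω i)) hrs
      (fun _ => rfl) (fun _ => rfl) z' hzi hz1 F₀ 0 (pullback.snd εY τ) rfl (pullback.lift_snd _ _ _)
      (hclass hem _ 0) (fun i => (key i).1.1) η

include hst hψ in
/-- **The geometric fibres are acyclic.** -/
theorem geomFibresAcyclicN_of_stageBC (hL : ∃ ℓ ∈ L, ℓ.Prime) :
    EtAcyc.GeomFibresAcyclicN L n (Spec.map (CommRingCat.ofHom ψ)) := by
  intro y Ω _ _ _ _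
  let S := Spec (CommRingCat.of A)
  let εY := Hens2.specOf S (gU x) RY
  let z := EtAcyc.geomPt (Spec (CommRingCat.of RY)) y Ω
  letI : Algebra A Ω := (Spec.preimage (z ≫ εY)).hom.toAlgebra
  have hz : z ≫ εY = qfBase A Ω := (Spec.map_preimage (z ≫ εY)).symm
  haveI : WeaklyEtale εY := ProEtSLib.weaklyEtale_specOf S (gU x) RY
  have hP : IndQF A Ω := by
    let ρ : S.residueField (εY y) ⟶ CommRingCat.of Ω :=
      εY.residueFieldMap y ≫ CommRingCat.ofHom (algebraMap ((Spec (CommRingCat.of RY)).residueField y) Ω)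
    refine indQF_of_residueFieldMap (εY y) ρ ?_ ?_
    · have hsep := ProEtSLib.isSeparable_residueFieldMap εY y
      letI := (εY.residueFieldMap y).hom.toAlgebra
      haveI := hsep
      rw [CommRingCat.hom_comp]
      exact RingHom.IsIntegral.trans _ _ (fun w => Algebra.IsSeparable.isIntegral (S.residueField (εY y)) w)
        (fun w => (Algebra.IsAlgebraic.isAlgebraic (R := (Spec (CommRingCat.of RY)).residueField y) w).isIntegral)
    · refine Eq.trans ?_ hz
      show Spec.map (εY.residueFieldMap y ≫ _) ≫ _ = (Spec.map _ ≫ _) ≫ εY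
      rw [Spec.map_comp, Category.assoc, Category.assoc, Scheme.Hom.SpecMap_residueFieldMap_fromSpecResidueField]
  haveI := PBCLib.isSepClosed_residueField_self Ω
  let h := Spec.map (CommRingCat.ofHom ψ)
  let τ := qfBase A Ω
  let fib := pullback h z
  let F₀ : ℕ → EtCoh.Ab S := fun ℓ => EtCoh.const S (ZMod ℓ)
  have hF₀ : ∀ ℓ : ℕ, ℓ.Prime → ℓ ∈ L → EtAcyc.IsLTorsion L (F₀ ℓ) := fun ℓ hℓ hℓL =>
    CompBCLib.isLTorsion_of_killedBy
      ⟨hℓ.pos, fun p hp hd => ((Nat.prime_dvd_prime_iff_eq hp hℓ).1 hd).symm ▸ hℓL⟩ (PBCLib.killedBy_const S ℓ)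
  have cls : ∀ ℓ : ℕ, ℓ.Prime → ℓ ∈ L → _ := fun ℓ hℓ hℓL =>
    fibre_classes gU hst x RY RX ψ hψ Ω hP z hz (F₀ ℓ) (hF₀ ℓ hℓ hℓL)
  obtain ⟨ℓ₀, hℓ₀L, hℓ₀⟩ := hL
  haveI : Fact ℓ₀.Prime := ⟨hℓ₀⟩
  haveI : Unique (EtCoh.top (Spec (CommRingCat.of Ω))).left := inferInstanceAs (Unique (Spec (CommRingCat.of Ω)))
  let ev : LocallyConstant (EtCoh.top (Spec (CommRingCat.of Ω))).left (ULift.{u + 1} (ZMod ℓ₀)) ≃ ULift.{u + 1} (ZMod ℓ₀) :=
    { toFun := fun f => f default
      invFun := fun c => LocallyConstant.const _ c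
      left_inv := fun f => LocallyConstant.ext fun w => congrArg f (Unique.eq_default w).symm
      right_inv := fun _ => rfl }
  let eΩ : EtCoh.H (Spec (CommRingCat.of Ω)) ((EtCoh.pull τ).obj (F₀ ℓ₀)) 0 ≃ ZMod ℓ₀ :=
    (((EtCoh.HF _ 0).mapIso (EtCore.pullConst τ (ZMod ℓ₀))).addCommGroupIsoToAddEquiv).toEquiv.trans
      (((Sheaf.H.equiv₀ _ (EtCore.topIsTerminal (Spec (CommRingCat.of Ω)))).trans
        (EtTraceLib.constEquiv (AddCommGrpCat.of (ULift.{u + 1} (ZMod ℓ₀))) (EtCoh.top _))).toEquiv.trans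
          (ev.trans Equiv.ulift))
  have hne : Nonempty ↥fib := by
    by_contra hem
    haveI : Subsingleton (EtCoh.H (Spec (CommRingCat.of Ω)) ((EtCoh.pull τ).obj (F₀ ℓ₀)) 0) :=
      subsingleton_of_forall_eq 0 ((cls ℓ₀ hℓ₀ hℓ₀L).2 (not_nonempty_iff.1 hem))
    haveI : Subsingleton (ZMod ℓ₀) := eΩ.symm.subsingleton
    exact absurd (Subsingleton.elim (0 : ZMod ℓ₀) 1) zero_ne_one
  let gF := pullback.snd h z ≫ τ
  have toConst : ∀ (ℓ q : ℕ), EtCoh.H fib ((EtCoh.pull gF).obj (F₀ ℓ)) q ≃+ EtCoh.H fib (EtCoh.const fib (ZMod ℓ)) q :=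
    fun ℓ q => ((EtCoh.HF fib q).mapIso (EtCore.pullConst gF (ZMod ℓ))).addCommGroupIsoToAddEquiv
  refine ⟨hne, ?_, fun ℓ hℓ hℓL q hq hqn => ?_⟩
  · haveI := hne
    refine connected_of_surjective_H0 hℓ₀
      (fun c => toConst ℓ₀ 0 (EtCore.HpullVia (pullback.snd h z) τ gF rfl (F₀ ℓ₀) 0 (eΩ.symm c))) ?_
    exact (toConst ℓ₀ 0).surjective.comp (((cls ℓ₀ hℓ₀ hℓ₀L).1 0 n.zero_le).comp eΩ.symm.surjective)
  · haveI := S0073.result Ω ((EtCoh.pull τ).obj (F₀ ℓ)) q hq
    haveI := ((cls ℓ hℓ hℓL).1 q hqn).subsingleton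
    exact (toConst ℓ q).symm.injective.subsingleton

end Groth.Agent.UAcycBCLib
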