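import Groth.Agent.AcycFibLib.Stalk
import Groth.Agent.AcycCompLib.Criterion

/-!
# Sections over strict localizations from an isomorphism of base change
-/

set_option autoImplicit false
set_option linter.unusedSectionVars false
set_option linter.style.haveILetI false
set_option backward.isDefEq.respectTransparency false
set_option backward.isDefEq.respectTransparency.types false
set_option maxHeartbeats 1000000

universe u

open CategoryTheory CategoryTheory.Limits AlgebraicGeometry Opposite IsLocalRing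
open Groth.Agent.EtPtsLib Groth.Agent.StrictLocLib

attribute [local instance] Groth.Agent.S0101.result

noncomputable section

namespace Groth.Agent.UAcycBCLib

/-- If the transfer along a triangle is bijective then so is the unit on global sections. -/
theorem bijective_unit_of_trans {X Y C : Scheme.{u}} {q : Y ⟶ X} {t : C ⟶ Y} {g : C ⟶ X} (hw : t ≫ q = g)
    (F : EtCoh.Ab X) (hs : Function.Bijective (StrictLocLib.trans hw F)) :
    Function.Bijective
      (((EtCoh.pullPushAdj t).unit.app ((EtCoh.pull q).obj F)).hom.app (op (EtCoh.top Y))) := by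
  haveI := isIso_transAdj hw F
  have hb := ConcreteCategory.bijective_of_isIso ((((ObjectProperty.ι _).mapIso (asIso (transAdj hw F))).app
    (op ((EtCoh.bc t).obj (EtCoh.top Y)))).hom ≫ ((EtCoh.pull g).obj F).obj.map (EtCore.bcTopIso t).inv.op)
  have h1 : (transHom hw F).hom.app (op (EtCoh.top Y)) =
      ((EtCoh.pullPushAdj t).unit.app ((EtCoh.pull q).obj F)).hom.app (op (EtCoh.top Y)) ≫
        (transAdj hw F).hom.app (op ((EtCoh.bc t).obj (EtCoh.top Y))) :=
    (congrArg (fun φ => φ.hom.app (op (EtCoh.top Y))) (unit_transAdj hw F)).symm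
  refine (Function.Bijective.of_comp_iff' hb _).1 ?_
  refine Eq.mpr (congrArg Function.Bijective (funext fun z => ?_)) hs
  show _ = ((transHom hw F).hom.app (op (EtCoh.top Y)) ≫ _) z
  rw [h1]
  rfl

/-- Degree zero: a bijective unit on global sections gives bijectivity of pullback. -/
theorem bijective_Hpull_zero_of_unit {X Y : Scheme.{u}} (f : X ⟶ Y) (G : EtCoh.Ab Y)
    (h : Function.Bijective (((EtCoh.pullPushAdj f).unit.app G).hom.app (op (EtCoh.top Y)))) :
    Function.Bijective (EtCore.Hpull f G 0) := by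
  have hm := ConcreteCategory.bijective_of_isIso (((EtCoh.pull f).obj G).obj.map (EtCore.bcTopIso f).inv.op)
  have e : ⇑(Sheaf.H.equiv₀ ((EtCoh.pull f).obj G) (EtCore.topIsTerminal X)) ∘ ⇑(EtCore.Hpull f G 0) =
      (fun s => ((EtCoh.pull f).obj G).obj.map (EtCore.bcTopIso f).inv.op
        (((EtCoh.pullPushAdj f).unit.app G).hom.app (op (EtCoh.top Y)) s)) ∘
          ⇑(Sheaf.H.equiv₀ G (EtCore.topIsTerminal Y)) := funext fun x => by
    have h0 := EtLimLib.equiv₀_HpullThen f (𝟙 ((EtCoh.pull f).obj G)) x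
    rw [Adjunction.homEquiv_id, KPi1Lib.HpullThen_id'] at h0
    exact h0
  refine (Function.Bijective.of_comp_iff' (Sheaf.H.equiv₀ _ (EtCore.topIsTerminal X)).bijective _).1 ?_
  rw [e]
  exact (hm.comp h).comp (Sheaf.H.equiv₀ G _).bijective

section BC

variable {X S Y T : Scheme.{u}} (g : T ⟶ S) [QuasiCompact g] [QuasiSeparated g] (f : X ⟶ S) (h : Y ⟶ X)
  (e : Y ⟶ T) (hc : IsPullback e h g f)
  {RS RX : Type u} [CommRing RS] [HenselianLocalRing RS] [IsSepClosed (ResidueField RS)]
  [CommRing RX] [HenselianLocalRing RX] [IsSepClosed (ResidueField RX)]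
  (hS : Spec (CommRingCat.of RS) ⟶ S) (hX : Spec (CommRingCat.of RX) ⟶ X)
  (ψ : RS →+* RX) [IsLocalHom ψ] (hψ : hX ≫ f = Spec.map (CommRingCat.ofHom ψ) ≫ hS)
  (NS : NbhdSys hS) (NX : NbhdSys hX)

include hc hψ NS NX in
/-- **Sections over strict localizations correspond along an isomorphism of base change.** -/
theorem bijective_Hpull_of_baseChange0 (F : EtCoh.Ab T) (hbc : IsIso (EtCoh.baseChange0 g f h e hc.w F))
    (π : pullback h hX ⟶ pullback g hS) (hπ1 : π ≫ StrictLocLib.proj hS g = StrictLocLib.proj hX h ≫ e)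
    (hπ2 : π ≫ pullback.snd g hS = pullback.snd h hX ≫ Spec.map (CommRingCat.ofHom ψ)) :
    Function.Bijective (EtCore.Hpull π ((EtCoh.pull (StrictLocLib.proj hS g)).obj F) 0) := by
  refine bijective_Hpull_zero_of_unit π _ (bijective_unit_of_trans hπ1 F ?_)
  let Ω := AlgebraicClosure (ResidueField RX)
  let ι : ResidueField RX →+* Ω := algebraMap _ _
  let η := Spec.map (CommRingCat.ofHom ι) ≫ pt hX
  let α := EtCoh.baseChange0 g f h e hc.w F
  haveI : QuasiCompact h := MorphismProperty.of_isPullback hc ‹QuasiCompact g›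
  haveI : QuasiSeparated h := MorphismProperty.of_isPullback hc ‹QuasiSeparated g›
  have eS := geomAbove_comp f hS hX ψ hψ ι
  let TS := pullback g hS
  let YX := pullback h hX
  let pX : YX ⟶ Y := proj hX h
  let toS := stalkTo (ι.comp (ResidueField.map ψ)) (pt hS) (η ≫ f) eS ((EtCoh.push g).obj F).obj
  let toX := stalkTo ι (pt hX) η rfl ((EtCoh.push h).obj ((EtCoh.pull e).obj F)).obj
  have hkey : ∀ z, ∃ w, bcStalk g f h e η F α (toS z) = toX w ∧
      adjTop (rfl : pX ≫ e = pX ≫ e) F ((compare hX h).app ((EtCoh.pull e).obj F) w) =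
        trans hπ1 F ((compare hS g).app F z) := by
    intro z
    obtain ⟨V, l, x, rfl⟩ := (Scheme.pointSmallEtale (pt hS)).toPresheafFiber_jointly_surjective z
    have hl : (Spec.map (CommRingCat.ofHom (ResidueField.map ψ)) ≫ liftHom (pt hS) l) ≫ V.hom = pt hX ≫ f := by
      rw [Category.assoc, liftHom_comp, pt, pt, Category.assoc, hψ]
      simp only [← Spec.map_comp_assoc]
      rfl
    let lV : (Scheme.pointSmallEtale (pt hX ≫ f)).fiber.obj V :=
      Over.homMk (Spec.map (CommRingCat.ofHom (ResidueField.map ψ)) ≫ liftHom (pt hS) l) hl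
    let l' := liftBc f (pt hX) V lV
    let y := ((EtCoh.pullPushAdj e).unit.app F).hom.app (op ((EtCoh.bc g).obj V)) x
    let y' : EtCoh.sect ((EtCoh.push h).obj ((EtCoh.pull e).obj F)) ((EtCoh.bc f).obj V) :=
      ((EtCoh.pull e).obj F).obj.map (kappa g f h e hc V).op y
    refine ⟨(Scheme.pointSmallEtale (pt hX)).toPresheafFiber ((EtCoh.bc f).obj V) l'
      ((EtCoh.push h).obj ((EtCoh.pull e).obj F)).obj y', ?_, ?_⟩
    · refine (congrArg (bcStalk g f h e η F α) (stalkTo_germ _ _ _ eS _ V l x)).trans ?_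
      refine Eq.trans ?_ (stalkTo_germ ι (pt hX) η rfl _ _ l' y').symm
      have hb := isBC_ab g f h e hc F V
      rw [Adjunction.homEquiv_unit] at hb
      refine (congrArg ((Scheme.pointSmallEtale η).presheafFiber.map α.hom)
        ((ConcreteCategory.comp_apply _ _ _).symm.trans (congrArg (fun m => (ConcreteCategory.hom m) x)
          (toPresheafFiber_unitStalk f η ((EtCoh.push g).obj F) V
            (fibTo (ι.comp (ResidueField.map ψ)) (pt hS) (η ≫ f) eS V l))))).trans ?_
      refine ((Scheme.pointSmallEtale η).toPresheafFiber_naturality_apply α.hom _ _ _).trans ?_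
      have hlift : liftBc f η V (fibTo (ι.comp (ResidueField.map ψ)) (pt hS) (η ≫ f) eS V l) =
          fibTo ι (pt hX) η rfl ((EtCoh.bc f).obj V) l' := by
        refine fiber_bc_ext f η ((liftHom_liftBc_fst f η V _).trans ?_)
        show Spec.map (CommRingCat.ofHom (ι.comp (ResidueField.map ψ))) ≫ liftHom (pt hS) l =
          (Spec.map (CommRingCat.ofHom ι) ≫ liftHom (pt hX) l') ≫ bcFst f V
        rw [Category.assoc, liftHom_liftBc_fst]
        show _ = Spec.map _ ≫ Spec.map _ ≫ _
        rw [← Spec.map_comp_assoc, ← CommRingCat.ofHom_comp]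
      rw [hlift]
      exact congrArg ((Scheme.pointSmallEtale η).toPresheafFiber ((EtCoh.bc f).obj V)
        (fibTo ι (pt hX) η rfl ((EtCoh.bc f).obj V) l')
        ((EtCoh.push h).obj ((EtCoh.pull e).obj F)).obj) congr($hb x)
    · let m := toBC hX h ((EtCoh.bc f).obj V) l'
      have wm : m ≫ ((EtCoh.bc h).obj ((EtCoh.bc f).obj V)).hom = pX := toBC_w hX h _ _
      refine (congrArg (adjTop (rfl : pX ≫ e = pX ≫ e) F)
        (((ConcreteCategory.comp_apply _ _ _).symm.trans
          (congrArg (fun k => (ConcreteCategory.hom k) y') (toPresheafFiber_compare hX h _ l' ((EtCoh.pull e).obj F)))).trans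
        ((ConcreteCategory.comp_apply _ _ _).symm.trans (congrArg (fun k => (ConcreteCategory.hom k) y)
          (restrSec_map (kappa g f h e hc V) m wm (m ≫ (kappa g f h e hc V).left)
            ((Category.assoc _ _ _).trans ((congrArg (m ≫ ·) (MorphismProperty.Over.w (kappa g f h e hc V))).trans wm))
            rfl ((EtCoh.pull e).obj F)))))).trans ?_
      refine (adjTop_unit (rfl : pX ≫ e = pX ≫ e) F _ _ x).trans ?_
      refine Eq.trans ?_ (congrArg (trans hπ1 F) ((ConcreteCategory.comp_apply _ _ _).symm.trans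
        (congrArg (fun k => (ConcreteCategory.hom k) x) (toPresheafFiber_compare hS g V l F)))).symm
      refine Eq.trans ?_ (trans_restrSec hπ1 F _ _ x).symm
      refine congrArg (fun k : F.obj.obj (op ((EtCoh.bc g).obj V)) ⟶ (gsecF _).obj ((EtCoh.pull (pX ≫ e)).obj F) =>
        (ConcreteCategory.hom k) x) (restrSec_congr ?_ _ _ F)
      have hlift : liftOf hX ((EtCoh.bc f).obj V) l' ≫ bcFst f V =
          Spec.map (CommRingCat.ofHom ψ) ≫ liftOf hS V l := by
        haveI : Etale V.hom := V.prop
        refine lift_unique V.hom ?_ ?_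
        · rw [Category.assoc, Category.assoc, liftOf_w, bcFst, pullback.condition, ← Category.assoc, ← hψ]
          exact congrArg (· ≫ f) (liftOf_w hX _ l')
        · rw [← Category.assoc, resPt_liftOf, liftHom_liftBc_fst, ← Category.assoc, resPt, ← Spec.map_comp]
          show Spec.map (CommRingCat.ofHom (ResidueField.map ψ)) ≫ liftHom (pt hS) l = _
          rw [← resPt_liftOf hS V l, ← Category.assoc, resPt, ← Spec.map_comp]
          rfl
      apply pullback.hom_ext
      · rw [Category.assoc, Category.assoc, Category.assoc, toBC_fst, ← Category.assoc π,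
          hπ2,
          kappa_fst, ← Category.assoc m,
          show m ≫ bcFst h ((EtCoh.bc f).obj V) = pullback.snd h hX ≫ liftOf hX _ l' from toBC_fst hX h _ _,
          Category.assoc, hlift, Category.assoc]
      · have hcd : bcFst e ((EtCoh.bc g).obj V) ≫ ((EtCoh.bc g).obj V).hom =
            ((EtCoh.bc e).obj ((EtCoh.bc g).obj V)).hom ≫ e := pullback.condition
        show ((m ≫ (kappa g f h e hc V).left) ≫ bcFst e _) ≫ ((EtCoh.bc g).obj V).hom = _
        rw [Category.assoc, hcd, ← Category.assoc, Category.assoc m]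
        refine (congrArg (· ≫ e) ((congrArg (m ≫ ·) (MorphismProperty.Over.w (kappa g f h e hc V))).trans wm)).trans ?_
        exact hπ1.symm.trans ((congrArg (π ≫ ·) (toBC_w hS g V l).symm).trans (Category.assoc _ _ _).symm)
  have hcS := bijective_compare hS g NS F
  have ha := bijective_adjTop (rfl : pX ≫ e = pX ≫ e) F
  have hS' := bijective_stalkTo (ι.comp (ResidueField.map ψ)) (pt hS) (η ≫ f) eS ((EtCoh.push g).obj F).obj
  have hX' := bijective_stalkTo ι (pt hX) η rfl ((EtCoh.push h).obj ((EtCoh.pull e).obj F)).obj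
  haveI := hbc
  have hb : Function.Bijective (bcStalk g f h e η F α) :=
    (ConcreteCategory.bijective_of_isIso ((EtCoh.stalk η).map α)).comp
      (bijective_unitStalk f η ((EtCoh.push g).obj F))
  refine ⟨fun z₁ z₂ hz => ?_, fun c => ?_⟩
  · obtain ⟨a₁, rfl⟩ := hcS.2 z₁
    obtain ⟨a₂, rfl⟩ := hcS.2 z₂
    obtain ⟨w₁, h₁, h₁'⟩ := hkey a₁
    obtain ⟨w₂, h₂, h₂'⟩ := hkey a₂
    obtain rfl : w₁ = w₂ := (bijective_compare hX h NX ((EtCoh.pull e).obj F)).1
      (ha.1 (h₁'.trans (hz.trans h₂'.symm)))
    rw [hS'.1 (hb.1 (h₁.trans h₂.symm))]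
  · obtain ⟨y, hy⟩ := ha.2 c
    obtain ⟨w, hw⟩ := (bijective_compare hX h NX ((EtCoh.pull e).obj F)).2 y
    obtain ⟨z', hz'⟩ := hb.2 (toX w)
    obtain ⟨z, rfl⟩ := hS'.2 z'
    obtain ⟨w', h₁, h₂⟩ := hkey z
    obtain rfl : w' = w := hX'.1 (h₁.symm.trans hz')
    exact ⟨_, h₂.symm.trans ((congrArg (adjTop (rfl : pX ≫ e = pX ≫ e) F) hw).trans hy)⟩

end BC

end Groth.Agent.UAcycBCLib
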