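import Groth.Agent.UAcycBCLib.KeyTop
import Groth.Agent.UAcycBCLib.Basic
import Groth.Agent.CompBCLib.Derived
import Groth.Agent.S0385
import Groth.Agent.ShriekProper.QFinite
import Groth.Agent.S0620
import Groth.Agent.AcycFibLib.Via

/-!
# Quasi-finite stages under base change for quasi-compact open immersions
-/

set_option autoImplicit false
set_option linter.style.haveILetI false
set_option linter.unusedSectionVars false
set_option backward.isDefEq.respectTransparency false
set_option backward.isDefEq.respectTransparency.types false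
set_option maxHeartbeats 1000000
set_option synthInstance.maxHeartbeats 400000

universe u

open CategoryTheory CategoryTheory.Limits AlgebraicGeometry Opposite IsLocalRing

attribute [local instance] HasDerivedCategory.standard

noncomputable section

namespace Groth.Agent.UAcycBCLib

attribute [local instance] Groth.Agent.S0101.result

variable {L : Set ℕ} {n : ℕ}

/-- Base change for quasi-compact opens of quasi-finite covers, in terms of direct images of sheaves. -/
def OpenBC {X Y : Scheme.{u}} (g : X ⟶ Y) (L : Set ℕ) (n : ℕ) : Prop :=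
  ∀ (Y' : Scheme.{u}) (i : Y' ⟶ Y) [LocallyQuasiFinite i] [LocallyOfFiniteType i]
    (Y'' : Scheme.{u}) (i' : Y'' ⟶ Y') [IsOpenImmersion i'] [QuasiCompact i'] (G : EtCoh.Ab Y''),
    EtAcyc.IsLTorsion L G →
    IsIso (EtCoh.baseChange0 i' (pullback.snd g i) (pullback.fst (pullback.snd g i) i')
      (pullback.snd (pullback.snd g i) i') pullback.condition.symm G) ∧
    ∀ k : ℕ, k + 1 ≤ n → IsZero ((EtCoh.Rpush i' (k + 1)).obj G) →
      IsZero ((EtCoh.Rpush (pullback.fst (pullback.snd g i) i') (k + 1)).obj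
        ((EtCoh.pull (pullback.snd (pullback.snd g i) i')).obj G))

/-- The derived condition gives the condition on sheaves. -/
theorem openBC_of_H {X Y : Scheme.{u}} (g : X ⟶ Y)
    (H : ∀ (Y' : Scheme.{u}) (i : Y' ⟶ Y) [LocallyQuasiFinite i] [LocallyOfFiniteType i]
        (Y'' : Scheme.{u}) (i' : Y'' ⟶ Y') [IsOpenImmersion i'] [QuasiCompact i']
        [PreservesFiniteLimits (EtCoh.pull (pullback.snd g i))]
        [PreservesFiniteLimits (EtCoh.pull (pullback.snd (pullback.snd g i) i'))]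
        [DCoh.HasRpushEt Y'' i']
        [DCoh.HasRpushEt (pullback (pullback.snd g i) i') (pullback.fst (pullback.snd g i) i')]
        [DCoh.HasRpushEt (pullback g i) (pullback.snd g i)]
        (adj : EtBC.pullD (pullback.snd g i) ⊣ DCoh.RpushEt (pullback g i) (pullback.snd g i))
        (F : EtCoh.Ab Y''), EtAcyc.IsLTorsion L F →
        ∀ q : ℤ, q ≤ n → IsIso ((DerivedCategory.homologyFunctor (EtCoh.Ab (pullback g i)) q).map
          (EtBC.bcMap i' (pullback.snd g i) (pullback.fst (pullback.snd g i) i')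
            (pullback.snd (pullback.snd g i) i') pullback.condition.symm adj (EtBC.single Y'' F)))) :
    OpenBC g L n := by
  intro Y' i _ _ Y'' i' _ _ G hG
  let g₁ := pullback.snd g i
  let j' := pullback.fst g₁ i'
  let g'' := pullback.snd g₁ i'
  haveI := BCDLib.hasRpushEt i'
  haveI := BCDLib.hasRpushEt j'
  haveI := BCDLib.hasRpushEt g₁
  obtain ⟨adj, -⟩ := BCDLib.exists_adj i' g₁ j' g'' pullback.condition.symm
  let R := InjectiveResolution.of G
  have hθ := fun (q : ℤ) (hq : q ≤ n) =>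
    CompBCLib.isIso_H_θ_of_bcMap i' g₁ j' g'' pullback.condition.symm adj R q (H Y' i Y'' i' adj G hG q hq)
  refine ⟨CompBCLib.isIso_baseChange0_of_θ i' g₁ j' g'' pullback.condition.symm R (hθ 0 (Int.natCast_nonneg n)),
    fun k hk hz => CompBCLib.isZero_Rpush_of_θ i' g₁ j' g'' pullback.condition.symm R k hz
      (hθ _ (Int.ofNat_le.2 hk))⟩

variable {X Y : Scheme.{u}} {g : X ⟶ Y}

/-- **Quasi-finite affine stages.** -/
theorem exists_stage (hg : OpenBC g L n) {S : Scheme.{u}} [IsAffine S] (u : S ⟶ Y) [IsOpenImmersion u]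
    {T : Scheme.{u}} (σ : T ⟶ S)
    [LocallyQuasiFinite σ] [LocallyOfFiniteType σ] [QuasiCompact σ] [IsSeparated σ] (G : EtCoh.Ab T)
    (hG : EtAcyc.IsLTorsion L G)
    (hR : ∀ {Z : Scheme.{u}} (φ : T ⟶ Z) [QuasiCompact φ] [QuasiSeparated φ] (k : ℕ),
      IsZero ((EtCoh.Rpush φ (k + 1)).obj G)) :
    ∃ (Xb : Scheme.{u}) (hb : Xb ⟶ T) (pY : Xb ⟶ pullback g u) (sq : IsPullback hb pY σ (pullback.snd g u)),
      IsIso (EtCoh.baseChange0 σ (pullback.snd g u) pY hb sq.w G) ∧
      ∀ k : ℕ, k + 1 ≤ n → IsZero ((EtCoh.Rpush pY (k + 1)).obj ((EtCoh.pull hb).obj G)) := by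
  obtain ⟨Y', j, π, hj, hjc, hπ, hσ⟩ := S0385.result σ
  subst hσ
  haveI := hj
  haveI := hjc
  haveI := hπ
  let i := π ≫ u
  haveI : LocallyQuasiFinite u := Groth.Agent.ASp.IsEtLocal.etale_le (P := @LocallyQuasiFinite) _
    (inferInstance : Etale u)
  haveI : LocallyQuasiFinite i := inferInstance
  haveI : LocallyOfFiniteType i := inferInstance
  let gU := pullback.snd g u
  let g₁ := pullback.snd g i
  let πX : pullback g i ⟶ pullback g u :=
    pullback.lift (pullback.fst g i) (g₁ ≫ π) (by rw [Category.assoc]; exact pullback.condition)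
  have sqπ : IsPullback g₁ πX π gU := by
    refine (IsPullback.of_right ?_ (pullback.lift_snd _ _ _) (IsPullback.of_hasPullback g u)).flip
    rw [pullback.lift_fst]
    exact IsPullback.of_hasPullback g i
  let j' := pullback.fst g₁ j
  let g'' := pullback.snd g₁ j
  have sqj : IsPullback g'' j' j g₁ := (IsPullback.of_hasPullback g₁ j).flip
  obtain ⟨h0, hv⟩ := hg Y' i T j G hG
  haveI : QuasiSeparated j := inferInstance
  haveI : IsFinite πX := MorphismProperty.of_isPullback (P := @IsFinite) sqπ ‹_›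
  haveI := PBCLib.preservesFiniteColimits_push_integral πX
  refine ⟨_, g'', j' ≫ πX, sqj.paste_vert sqπ, ?_, fun k hk =>
    ShriekProper.isZero_Rpush_comp_exact j' πX _ _ (hv k hk (hR j k))⟩
  haveI : IsIso (EtCoh.baseChange0 j g₁ j' g'' sqj.w G) := h0
  haveI : IsIso (EtCoh.baseChange0 π gU πX g₁ sqπ.w ((EtCoh.push j).obj G)) :=
    EtPtsLib.isIso_baseChange0 π gU πX g₁ sqπ _
  haveI : IsIso ((EtCoh.pull gU).map ((EtCoh.pushComp π j).hom.app G) ≫
      EtCoh.baseChange0 (j ≫ π) gU (j' ≫ πX) g'' (sqj.paste_vert sqπ).w G) := by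
    rw [baseChange0_hcomp j π gU g₁ πX j' g'' sqj.w sqπ.w (sqj.paste_vert sqπ).w G]
    infer_instance
  exact IsIso.of_isIso_comp_left ((EtCoh.pull gU).map ((EtCoh.pushComp π j).hom.app G)) _

section Strict

variable {U T Xb : Scheme.{u}} (gU : X ⟶ U) (σ : T ⟶ U) [QuasiCompact σ] [QuasiSeparated σ] (hb : Xb ⟶ T)
  (pY : Xb ⟶ X) (sq : IsPullback hb pY σ gU) (G : EtCoh.Ab T)
  (hbc : IsIso (EtCoh.baseChange0 σ gU pY hb sq.w G))
  (hz : ∀ k : ℕ, k + 1 ≤ n → IsZero ((EtCoh.Rpush pY (k + 1)).obj ((EtCoh.pull hb).obj G)))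
  (x : X) (RY : Type u) [CommRing RY] [IsLocalRing RY] [Algebra (U.presheaf.stalk (gU x)) RY]
  [IsLocalHom (algebraMap (U.presheaf.stalk (gU x)) RY)]
  [Hensel.IsStrictHenselization (U.presheaf.stalk (gU x)) RY]
  (RX : Type u) [CommRing RX] [IsLocalRing RX] [Algebra (X.presheaf.stalk x) RX]
  [IsLocalHom (algebraMap (X.presheaf.stalk x) RX)] [Hensel.IsStrictHenselization (X.presheaf.stalk x) RX]
  (ψ : RY →+* RX) [IsLocalHom ψ]
  (hψ : Hens2.specOf X x RX ≫ gU = Spec.map (CommRingCat.ofHom ψ) ≫ Hens2.specOf U (gU x) RY)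

include sq hbc hz hψ in
/-- Over strict localizations the classes of the stage correspond to those of the base in degree zero and come from
the base in degrees up to `n`. -/
theorem bijective_stage {W W₂ : Scheme.{u}} (p : W ⟶ T) (qX : W ⟶ Spec (CommRingCat.of RX))
    (sqW : IsPullback p qX σ (Hens2.specOf X x RX ≫ gU)) (p₂ : W₂ ⟶ T) (qY : W₂ ⟶ Spec (CommRingCat.of RY))
    (sqW₂ : IsPullback p₂ qY σ (Hens2.specOf U (gU x) RY)) (r : W ⟶ W₂)
    (hr : r ≫ p₂ = p) (hr2 : r ≫ qY = qX ≫ Spec.map (CommRingCat.ofHom ψ)) :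
    Function.Bijective (EtCore.HpullVia r p₂ p hr G 0) ∧
      ∀ q ≤ n, Function.Surjective (EtCore.HpullVia r p₂ p hr G q) := by
  let εX := Hens2.specOf X x RX
  let εY := Hens2.specOf U (gU x) RY
  haveI : QuasiCompact pY := MorphismProperty.of_isPullback sq ‹QuasiCompact σ›
  haveI : QuasiSeparated pY := MorphismProperty.of_isPullback sq ‹QuasiSeparated σ›
  haveI : HenselianLocalRing RX := Hensel.IsStrictHenselization.henselian (R := X.presheaf.stalk x) (S := RX)
  haveI : HenselianLocalRing RY := Hensel.IsStrictHenselization.henselian (R := U.presheaf.stalk (gU x)) (S := RY)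
  haveI : IsSepClosed (ResidueField RX) :=
    (Hensel.IsStrictHenselization.isSepClosure (R := X.presheaf.stalk x) (S := RX)).sep_closed
  haveI : IsSepClosed (ResidueField RY) :=
    (Hensel.IsStrictHenselization.isSepClosure (R := U.presheaf.stalk (gU x)) (S := RY)).sep_closed
  let h₁ := pullback.fst pY εX ≫ hb
  have sqW₁ : IsPullback h₁ (pullback.snd pY εX) σ (εX ≫ gU) := (IsPullback.of_hasPullback pY εX).paste_horiz sq
  let e := sqW.isoIsPullback _ _ sqW₁
  let e₂ := (IsPullback.of_hasPullback σ εY).isoIsPullback _ _ sqW₂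
  have he1 : e.hom ≫ h₁ = p := sqW.isoIsPullback_hom_fst _ _ sqW₁
  have he2 : e.hom ≫ pullback.snd pY εX = qX := sqW.isoIsPullback_hom_snd _ _ sqW₁
  have hf1 : e₂.hom ≫ p₂ = pullback.fst σ εY := (IsPullback.of_hasPullback σ εY).isoIsPullback_hom_fst _ _ sqW₂
  have hf2 : e₂.hom ≫ qY = pullback.snd σ εY := (IsPullback.of_hasPullback σ εY).isoIsPullback_hom_snd _ _ sqW₂
  let π : pullback pY εX ⟶ pullback σ εY :=
    pullback.lift h₁ (pullback.snd pY εX ≫ Spec.map (CommRingCat.ofHom ψ))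
      (sqW₁.w.trans ((congrArg (pullback.snd pY εX ≫ ·) hψ).trans (Category.assoc _ _ _).symm))
  have hre : e.hom ≫ π ≫ e₂.hom = r := sqW₂.hom_ext
    (by rw [Category.assoc, Category.assoc, hf1, pullback.lift_fst, he1, hr])
    (by rw [Category.assoc, Category.assoc, hf2, pullback.lift_snd, ← Category.assoc, he2, hr2])
  suffices h0 : Function.Bijective (EtCore.HpullVia r p₂ p hr G 0) by
    refine ⟨h0, fun q hq => ?_⟩
    rcases q with _ | k
    · exact h0.2
    · haveI : Subsingleton (EtCoh.H W ((EtCoh.pull p).obj G) (k + 1)) := by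
        refine SmoothBCLib.subsingleton_H_pull_iso h₁ e.hom p he1 G (k + 1) ?_
        refine (SmoothBCLib.subsingleton_H_pull_pull hb (pullback.fst pY εX) h₁ rfl G (k + 1)).2 ?_
        exact AddCommGrpCat.subsingleton_of_isZero
          (((EtCoh.stalk (Hens2.geomPt X x RX)).map_isZero (hz k hq)).of_iso
            (S0620.result pY ((EtCoh.pull hb).obj G) x RX (k + 1)).some.symm)
      exact Function.surjective_to_subsingleton _
  obtain ⟨NS⟩ := StrictLocLib.exists_nbhdSys εY (StrictLocLib.bijective_germVal U (gU x) RY)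
  obtain ⟨NX⟩ := StrictLocLib.exists_nbhdSys εX (StrictLocLib.bijective_germVal X x RX)
  have hs := bijective_Hpull_of_baseChange0 σ gU pY hb sq εY εX ψ hψ NS NX G hbc π (pullback.lift_fst _ _ _)
    (pullback.lift_snd _ _ _)
  have hπ : (π ≫ e₂.hom) ≫ p₂ = h₁ := by rw [Category.assoc, hf1, pullback.lift_fst]
  have h2 : ∀ z, EtCore.HpullVia π (pullback.fst σ εY) h₁ (pullback.lift_fst _ _ _) G 0
      (EtCore.HpullVia e₂.hom p₂ _ hf1 G 0 z) = EtCore.HpullVia (π ≫ e₂.hom) p₂ h₁ hπ G 0 z := fun z =>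
    AcycFibLib.HpullVia_comp p₂ e₂.hom π _ hf1 (π ≫ e₂.hom) rfl h₁ hπ (pullback.lift_fst _ _ _) G 0 z
  have h3 : ∀ z, EtCore.HpullVia e.hom h₁ p he1 G 0 (EtCore.HpullVia (π ≫ e₂.hom) p₂ h₁ hπ G 0 z) =
      EtCore.HpullVia r p₂ p hr G 0 z := fun z =>
    AcycFibLib.HpullVia_comp p₂ (π ≫ e₂.hom) e.hom h₁ hπ r hre p hr he1 G 0 z
  have b1 := (AcycFibLib.bijective_HpullVia_iff e.hom h₁ p he1 G 0).2 (PBCLib.bijective_Hpull_of_isIso e.hom _ 0)
  have b2 := (AcycFibLib.bijective_HpullVia_iff e₂.hom p₂ _ hf1 G 0).2 (PBCLib.bijective_Hpull_of_isIso e₂.hom _ 0)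
  have b3 := (AcycFibLib.bijective_HpullVia_iff π _ h₁ (pullback.lift_fst _ _ _) G 0).2 hs
  refine Eq.mp (congrArg Function.Bijective (funext fun z => ?_)) (b1.comp (b3.comp b2))
  exact (congrArg _ (h2 z)).trans (h3 z)

end Strict

end Groth.Agent.UAcycBCLib
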