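import Groth.Agent.AcycFibLib.Via

/-!
# Classes whose image in a sheaf pushed from a point comes from the point
-/

set_option autoImplicit false
set_option linter.style.haveILetI false
set_option linter.unusedSectionVars false
set_option backward.isDefEq.respectTransparency false
set_option backward.isDefEq.respectTransparency.types false
set_option maxHeartbeats 1000000

universe u

open CategoryTheory CategoryTheory.Limits AlgebraicGeometry Opposite

attribute [local instance] Groth.Agent.S0101.result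

noncomputable section

namespace Groth.Agent.UAcycBCLib

variable {C W W₂ P T : Scheme.{u}} (p : W ⟶ T) (p₂ : W₂ ⟶ T) (r : W ⟶ W₂) (hr : r ≫ p₂ = p)
  (τ : P ⟶ T) (z : P ⟶ W₂) (hz : z ≫ p₂ = τ) (u : C ⟶ W) (v : C ⟶ P) (huv : u ≫ r = v ≫ z)
  (gC : C ⟶ T) (hu : u ≫ p = gC) (hv : v ≫ τ = gC)

include r hr z hz huv in
/-- Let `M = τ_* τ⁻¹ F`. If every class of `p⁻¹ M` on `W` comes from `W₂`, the classes of `F` pulled back from `W`
to `C` come from the point `P`. -/
theorem exists_HpullVia_eq (F : EtCoh.Ab T) (q : ℕ)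
    (hs : Function.Surjective (EtCore.HpullVia r p₂ p hr ((EtCoh.push τ).obj ((EtCoh.pull τ).obj F)) q))
    (x : EtCoh.H W ((EtCoh.pull p).obj F) q) :
    ∃ z₀ : EtCoh.H P ((EtCoh.pull τ).obj F) q,
      Sheaf.H.map (PBCLib.cp τ v gC hv F).hom q (EtCore.Hpull v _ q z₀) =
        EtCore.HpullVia u p gC hu F q x := by
  let M := (EtCoh.push τ).obj ((EtCoh.pull τ).obj F)
  let a : F ⟶ M := (EtCoh.pullPushAdj τ).unit.app F
  let c : (EtCoh.pull τ).obj M ⟶ (EtCoh.pull τ).obj F := (EtCoh.pullPushAdj τ).counit.app _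
  let ρ : (EtCoh.pull gC).obj M ⟶ (EtCoh.pull gC).obj F :=
    (PBCLib.cp τ v gC hv M).inv ≫ (EtCoh.pull v).map c ≫ (PBCLib.cp τ v gC hv F).hom
  have hρ : (EtCoh.pull gC).map a ≫ ρ = 𝟙 _ := by
    have hn := ((EtCore.pullComp v τ).symm ≪≫ EtCore.pullCongr hv).inv.naturality a
    have h1 : (EtCoh.pull τ).map a ≫ c = 𝟙 _ := (EtCoh.pullPushAdj τ).left_triangle_components F
    show (EtCoh.pull gC).map a ≫ (PBCLib.cp τ v gC hv M).inv ≫ _ = _
    refine (Category.assoc _ _ _).symm.trans ((congrArg (· ≫ _) hn).trans ?_)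
    dsimp only [Functor.comp_map]
    rw [Category.assoc, ← Functor.map_comp_assoc, h1]
    refine (congrArg (_ ≫ ·) ((congrArg (· ≫ _) ((EtCoh.pull v).map_id _)).trans (Category.id_comp _))).trans ?_
    exact (PBCLib.cp τ v gC hv F).inv_hom_id
  obtain ⟨y, hy⟩ := hs (Sheaf.H.map ((EtCoh.pull p).map a) q x)
  refine ⟨Sheaf.H.map c q (EtCore.HpullVia z p₂ τ hz M q y), ?_⟩
  have key : Sheaf.H.map ((EtCoh.pull gC).map a) q (EtCore.HpullVia u p gC hu F q x) =
      EtCore.HpullVia v τ gC hv M q (EtCore.HpullVia z p₂ τ hz M q y) := by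
    have h1 := CompBCLib.HpullVia_natural p u gC hu a q x
    refine h1.symm.trans ?_
    rw [← hy]
    have w₃ : (v ≫ z) ≫ p₂ = gC := by rw [Category.assoc, hz, hv]
    exact (AcycFibLib.HpullVia_comp p₂ r u p hr (v ≫ z) huv gC w₃ hu M q y).trans
      (AcycFibLib.HpullVia_comp p₂ z v τ hz (v ≫ z) rfl gC w₃ hv M q y).symm
  have h2 := congrArg (Sheaf.H.map ρ q) key
  rw [CompBCLib.H_map_map, hρ, CompBCLib.H_map_id] at h2
  refine Eq.trans ?_ h2.symm
  show _ = Sheaf.H.map ρ q (Sheaf.H.map (PBCLib.cp τ v gC hv M).hom q (EtCore.Hpull v _ q _))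
  rw [CompBCLib.H_map_map, CompBCLib.Hpull_map v c, CompBCLib.H_map_map]
  congr 2
  simp [ρ]

end Groth.Agent.UAcycBCLib
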